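import Cfsg.Agent.H614.AMod.Main

/-!
# S3499, row `Ω₈⁺(q)`: no `A₁₀` in characteristic 2 (helper342)

`no_a10` : a core with simple quotient `A₁₀` in dimension 8, `p = 2`, fixes no nondegenerate quadratic form.
-/

set_option autoImplicit false

namespace Cfsg.Agent.H342.EP8

open Equiv Equiv.Perm Cfsg Cfsg.Geo
open Cfsg.Agent.H614.AMod Cfsg.Agent.H882.Del Cfsg.Agent.H915.LD Cfsg.Agent.H964.AltMod

universe u

/-- a quadratic form invariant under the natural module of `A_m`, `m ≡ 2 mod 4`, `p = 2`, `dim = m - 2`, is not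
nondegenerate -/
theorem natm_false {F : Type u} [Field F] {ι : Type} [Fintype ι] [DecidableEq ι] (h2 : (2 : F) = 0)
    {ρ : Representation F (alternatingGroup (Fin 10)) (ι → F)} {w : Fin 10 → Fin 10 → (ι → F)} (N : NatM ρ w)
    (hirr : Irr ρ) {Qf : (ι → F) → F} (hQ : IsNondegenerateQuadraticForm Qf) (hfix : ∀ a v, Qf (ρ a v) = Qf v) :
    False := by
  have h8 : 8 ≤ Fintype.card (Fin 10) := by rw [Fintype.card_fin]; norm_num
  have hadd : ∀ x y, Qf (x + y) = Qf x + Qf y + QuadraticMap.polar Qf x y := by
    intro x y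
    unfold QuadraticMap.polar
    ring
  have hbl := hQ.polar_bilinear
  have hx2 : ∀ x : F, x + x = 0 := by
    intro x
    rw [← two_mul, h2, zero_mul]
  have hanti : ∀ i j, w j i = w i j := by
    intro i j
    rw [N.anti]
    funext k
    exact (eq_neg_of_add_eq_zero_left (hx2 (w i j k))).symm
  -- all values are equal
  have hval : ∀ i j i' j' : Fin 10, i ≠ j → i' ≠ j' → Qf (w i j) = Qf (w i' j') := by
    intro i j i' j' h h'
    obtain ⟨g, h3, h4⟩ := exists_g h8 h h'
    rw [← hfix g (w i j), N.act, h3, h4]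
  set c : F := Qf (w 0 1) with hc
  have hval' : ∀ i j : Fin 10, i ≠ j → Qf (w i j) = c := fun i j h => hval i j 0 1 h (by decide)
  have h0 : Qf 0 = 0 := by
    have := hQ.smul 0 0
    rw [smul_zero] at this
    rw [this]
    ring
  -- sharing one index
  have hone : ∀ i j k : Fin 10, i ≠ j → j ≠ k → i ≠ k → QuadraticMap.polar Qf (w i j) (w j k) = c := by
    intro i j k h3 h4 h5
    have h6 := hadd (w i j) (w j k)
    rw [N.tri, hval' i k h5, hval' i j h3, hval' j k h4, hx2, zero_add] at h6
    exact h6.symm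
  have hpx : ∀ x, QuadraticMap.polar Qf x x = 0 := by
    intro x
    have h6 := hadd x x
    have h7 : x + x = 0 := by
      funext k
      exact hx2 _
    rw [h7, h0, hx2, zero_add] at h6
    exact h6.symm
  have hps : ∀ x y, QuadraticMap.polar Qf x y = QuadraticMap.polar Qf y x := by
    intro x y
    unfold QuadraticMap.polar
    rw [add_comm x y]
    ring
  -- disjoint
  have htwo : ∀ i j k l : Fin 10, i ≠ j → i ≠ k → i ≠ l → j ≠ k → j ≠ l → k ≠ l →
      QuadraticMap.polar Qf (w i j) (w k l) = 0 := by
    intro i j k l hij hik hil hjk hjl hkl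
    rw [← N.tri k j l, hbl.add_right, hone i j l hij hjl hil, hanti j k, hone i j k hij hjk hik, hx2]
  -- the relation
  have hrel : w 0 1 + (w 2 3 + (w 4 5 + (w 6 7 + w 8 9))) = 0 := by
    have h10 : (Fintype.card (Fin 10) : F) = 0 := by
      rw [Fintype.card_fin]
      have : ((10 : ℕ) : F) = 2 * 5 := by norm_num
      rw [this, h2, zero_mul]
    have h3 := N.vec_eq_zero h8 h10 hirr 0
    unfold NatM.vec at h3
    have e2 : w 2 3 = w 0 2 + w 0 3 := by rw [← N.tri 2 0 3, hanti 0 2]
    have e4 : w 4 5 = w 0 4 + w 0 5 := by rw [← N.tri 4 0 5, hanti 0 4]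
    have e6 : w 6 7 = w 0 6 + w 0 7 := by rw [← N.tri 6 0 7, hanti 0 6]
    have e8 : w 8 9 = w 0 8 + w 0 9 := by rw [← N.tri 8 0 9, hanti 0 8]
    rw [e2, e4, e6, e8, ← h3]
    simp only [Fin.sum_univ_succ, Fin.sum_univ_zero, N.self 0]
    simp only [zero_add, add_zero, add_assoc]
    rfl
  have hc0 : c = 0 := by
    have h3 := congrArg Qf hrel
    rw [h0] at h3
    rw [hadd, hadd, hadd, hadd] at h3
    simp only [hbl.add_right] at h3
    rw [htwo 0 1 2 3 (by decide) (by decide) (by decide) (by decide) (by decide) (by decide),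
      htwo 0 1 4 5 (by decide) (by decide) (by decide) (by decide) (by decide) (by decide),
      htwo 0 1 6 7 (by decide) (by decide) (by decide) (by decide) (by decide) (by decide),
      htwo 0 1 8 9 (by decide) (by decide) (by decide) (by decide) (by decide) (by decide),
      htwo 2 3 4 5 (by decide) (by decide) (by decide) (by decide) (by decide) (by decide),
      htwo 2 3 6 7 (by decide) (by decide) (by decide) (by decide) (by decide) (by decide),
      htwo 2 3 8 9 (by decide) (by decide) (by decide) (by decide) (by decide) (by decide),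
      htwo 4 5 6 7 (by decide) (by decide) (by decide) (by decide) (by decide) (by decide),
      htwo 4 5 8 9 (by decide) (by decide) (by decide) (by decide) (by decide) (by decide),
      htwo 6 7 8 9 (by decide) (by decide) (by decide) (by decide) (by decide) (by decide),
      hval' 0 1 (by decide), hval' 2 3 (by decide), hval' 4 5 (by decide), hval' 6 7 (by decide),
      hval' 8 9 (by decide)] at h3
    linear_combination h3 - 2 * c * h2
  -- the polar form vanishes
  have hz : ∀ i j k l : Fin 10, QuadraticMap.polar Qf (w i j) (w k l) = 0 := by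
    have hz0 : ∀ x, QuadraticMap.polar Qf x 0 = 0 := by
      intro x
      unfold QuadraticMap.polar
      rw [add_zero, h0]
      ring
    have hz1 : ∀ x, QuadraticMap.polar Qf 0 x = 0 := by
      intro x
      rw [hps, hz0]
    have hone' : ∀ i j k : Fin 10, QuadraticMap.polar Qf (w i j) (w j k) = 0 := by
      intro i j k
      by_cases h3 : i = j
      · rw [h3, N.self, hz1]
      by_cases h4 : j = k
      · rw [h4, N.self, hz0]
      by_cases h5 : i = k
      · rw [h5, hanti k j, hpx]
      rw [hone i j k h3 h4 h5, hc0]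
    intro i j k l
    rw [← N.tri k j l, hbl.add_right, hone' i j l, hanti j k, hone' i j k, add_zero]
  -- contradiction
  obtain ⟨i, j, hij⟩ := N.ne
  obtain ⟨-, ⟨x, hx⟩⟩ := hQ.nondegenerate _ hij
  apply hx
  have hxm : x ∈ Submodule.span F (Set.range fun p : Fin 10 × Fin 10 => w p.1 p.2) := by
    rw [N.span]
    exact Submodule.mem_top
  induction hxm using Submodule.span_induction with
  | mem y hy =>
    obtain ⟨⟨k, l⟩, rfl⟩ := hy
    exact hz i j k l
  | zero =>
    unfold QuadraticMap.polar
    rw [add_zero, h0]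
    ring
  | add y z _ _ hy hz => 
    by_cases hy0 : QuadraticMap.polar Qf (w i j) y = 0
    · by_cases hz0 : QuadraticMap.polar Qf (w i j) z = 0
      · rw [hbl.add_right, hy0, hz0, add_zero]
      · exact absurd (hz hz0) hz0
    · exact absurd (hy hy0) hy0
  | smul a y _ hy =>
    by_cases hy0 : QuadraticMap.polar Qf (w i j) y = 0
    · rw [hbl.smul_right, hy0, mul_zero]
    · exact absurd (hy hy0) hy0

/-- **`A₁₀` in dimension 8, characteristic 2** -/
theorem no_a10 {F : Type u} [Field F] [Finite F] [CharP F 2] {ι : Type} [Fintype ι] [DecidableEq ι]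
    (hn : Fintype.card ι = 8) {P : Subgroup (GL ι F)} (hC : Core P) (e : Soc P ≃* alternatingGroup (Fin 10))
    {Qf : (ι → F) → F} (hQ : IsNondegenerateQuadraticForm Qf) (hfix : FixesQuadForm (matrixSet P) Qf) : False := by
  have hp2 : Fact (Nat.Prime 2) := ⟨Nat.prime_two⟩
  rcases Cfsg.Agent.H614.AMod.Main.alt_cases hC 2 e (by norm_num) (by omega) (by norm_num) with h | h | h
  · obtain ⟨φ, -, w, N⟩ := h
    have h2 : (2 : F) = 0 := CharTwo.two_eq_zero
    refine natm_false h2 N (irr_rep φ hC) hQ ?_
    intro a v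
    rw [rep_apply]
    exact hfix _ ⟨_, (φ.symm a).2, rfl⟩ v
  · exact absurd h.m9 (by norm_num)
  · exact h.2.2.1 rfl

end Cfsg.Agent.H342.EP8
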