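import Cfsg.Agent.H84.EP.SpB

/-!
# The maximal subgroups of `Sp₆(2)` of order divisible by 81 (helper342)

`exists_form` : a maximal subgroup `M` of `Sp₆(2)` with `81 ∣ |M|` is the stabiliser of a quadratic form (the residual
class enters through `H84.EP.Res56`).
-/

set_option autoImplicit false

namespace Cfsg.Agent.H342.EP8

open Cfsg Cfsg.Geo Subgroup Cfsg.Agent.SporRec.TwoSp6.Sp Cfsg.Agent.H84.EP
open Cfsg.Agent.H876 (spToGL)

/-- the action -/
local instance actM : MulAction S V where
  smul := act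
  one_smul := act_one
  mul_smul := act_mul

theorem act_zero (g : S) : act g 0 = 0 := Matrix.mulVec_zero _

theorem act_ne {g : S} {v : V} (h : v ≠ 0) : act g v ≠ 0 := by
  intro h0
  apply h
  have := congrArg (act g⁻¹) h0
  rwa [← act_mul, inv_mul_cancel, act_one, act_zero] at this

theorem card_V : Nat.card V = 64 := by
  rw [Nat.card_eq_fintype_card]
  simp [ZMod.card]

/-- vectors fixed by a 3-subgroup -/
theorem no_fix {Y : Subgroup S} (h : 27 ∣ Nat.card Y) {w : V} (hw : w ≠ 0) (hY : ∀ y ∈ Y, act y w = w) : False := by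
  have h1 := (MulAction.stabilizer S w).card_mul_index
  have h2 : (MulAction.orbit S w) = {0}ᶜ := by
    ext v
    constructor
    · rintro ⟨g, rfl⟩
      exact act_ne hw
    · intro hv
      obtain ⟨g, hg⟩ := exists_act hw hv
      exact ⟨g, hg⟩
  have h3 : (MulAction.orbit S w).ncard = 63 := by
    rw [h2]
    have := Set.ncard_add_ncard_compl ({0} : Set V)
    rw [Set.ncard_singleton, card_V] at this
    omega
  rw [MulAction.index_stabilizer, card_S] at h1
  have h1' : Nat.card (MulAction.stabilizer S w) * 63 = 1451520 := by rw [← h3]; exact h1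
  have h4 : Y ≤ MulAction.stabilizer S w := fun y hy => hY y hy
  have h5 := h.trans (Subgroup.card_dvd_of_le h4)
  omega

/-- small invariant sets -/
theorem no_small {M : Subgroup S} (h : 81 ∣ Nat.card M) (s : Set V) (hs : s.ncard ≤ 8) (h0 : (0 : V) ∈ s) {w : V}
    (hw : w ∈ s) (hw0 : w ≠ 0) (hM : ∀ g ∈ M, ∀ v ∈ s, act g v ∈ s) : False := by
  have h1 := (MulAction.stabilizer M w).card_mul_index
  have h2 : insert 0 (MulAction.orbit M w) ⊆ s := by
    rintro v (rfl | ⟨g, rfl⟩)
    · exact h0
    · exact hM g.1 g.2 w hw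
  have h3 : (0 : V) ∉ MulAction.orbit M w := by
    rintro ⟨g, hg⟩
    exact act_ne hw0 hg
  have h4 := Set.ncard_le_ncard h2 (Set.toFinite _)
  rw [Set.ncard_insert_of_notMem h3 (Set.toFinite _)] at h4
  rw [MulAction.index_stabilizer] at h1
  have h5 : 0 < (MulAction.orbit M w).ncard := by
    rw [Set.ncard_pos (Set.toFinite _)]
    exact MulAction.nonempty_orbit w
  have h6 : 27 ∣ Nat.card (MulAction.stabilizer M w) := by
    rw [← h1] at h
    have key : ∀ c o : ℕ, o + 1 ≤ 8 → 0 < o → 81 ∣ c * o → 27 ∣ c := by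
      intro c o h4 h5 h
      have : o ≤ 7 := by omega
      interval_cases o <;> omega
    exact key _ _ (h4.trans hs) h5 h
  have h7 : Nat.card ((MulAction.stabilizer M w).map M.subtype) = Nat.card (MulAction.stabilizer M w) :=
    Subgroup.card_map_of_injective M.subtype_injective
  refine no_fix (Y := (MulAction.stabilizer M w).map M.subtype) (by rw [h7]; exact h6) hw0 ?_
  rintro _ ⟨g, hg, rfl⟩
  exact hg

/-- the residual case -/
theorem res_card {H : Type*} [Group H] [Finite H] (P : Subgroup H) [P.Normal] (hc : centralizer (P : Set H) = ⊥)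
    {K : Type} [Field K] [Fintype K] (hK : Fintype.card K = 9) (e : P ≃* PSU 3 K 3) : Nat.card H ∣ 12096 := by
  have hφ : Function.Injective (MulAut.conjNormal : H →* MulAut P) := by
    rw [injective_iff_map_eq_one]
    intro h hh
    rw [← mem_bot, ← hc, mem_centralizer_iff]
    intro x hx
    have h1 : (MulAut.conjNormal h (⟨x, hx⟩ : P) : H) = x := by rw [hh]; rfl
    rw [MulAut.conjNormal_apply] at h1
    calc x * h = (h * x * h⁻¹) * h := by rw [h1]
      _ = h * x := by group
  have hcard : Nat.card (MulAut P) = 12096 := card_aut hK e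
  rw [← hcard]
  have : Finite (MulAut P) := Nat.finite_of_card_ne_zero (by rw [hcard]; decide)
  exact Subgroup.card_dvd_of_injective _ hφ

theorem res_dvd (h56 : Res56) {H : Subgroup (GL (Fin 3 ⊕ Fin 3) (ZMod 2))} (hH : IsMaximalIn (spGL 3 (ZMod 2)) H)
    (hS : InSymplecticResidualClass H) : Nat.card H ∣ 12096 := by
  classical
  obtain ⟨P, hP, K, _, _, hK, ⟨e⟩⟩ := h56 H hH hS
  have hbot : (scalars (Fin 3 ⊕ Fin 3) (ZMod 2)).subgroupOf P = ⊥ := by
    rw [eq_bot_iff]
    intro x hx
    rw [mem_bot]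
    exact Subtype.ext (scal_one hx)
  let e1 : P ≃* PSU 3 K 3 := ((QuotientGroup.quotientBot (G := P)).symm.trans
    (QuotientGroup.quotientMulEquivOfEq hbot.symm)).trans e
  have hn : (P.subgroupOf H).Normal := ⟨by
    intro x hx h
    exact hP.normal _ h.2 _ hx⟩
  refine res_card (P.subgroupOf H) ?_ hK ((Subgroup.subgroupOfEquivOfLe hP.le).trans e1)
  rw [eq_bot_iff]
  intro h hh
  rw [mem_bot]
  apply Subtype.ext
  apply scal_one
  refine hP.centralizer_scalar _ h.2 fun x hx => ?_
  have h1 := mem_centralizer_iff.1 hh ⟨x, hP.le hx⟩ hx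
  have h2 : x * h.1 = h.1 * x := congrArg Subtype.val h1
  have h3 : h.1 * x * h.1⁻¹ * x⁻¹ = 1 := by rw [← h2]; group
  rw [h3]
  exact one_mem _

/-- conjugation -/
def cg (u : GL (Fin 3 ⊕ Fin 3) (ZMod 2)) (k : Matrix (Fin 3 ⊕ Fin 3) (Fin 3 ⊕ Fin 3) (ZMod 2)) :
    Matrix (Fin 3 ⊕ Fin 3) (Fin 3 ⊕ Fin 3) (ZMod 2) := u.val * k * u⁻¹.val

theorem cg_one (k : Matrix (Fin 3 ⊕ Fin 3) (Fin 3 ⊕ Fin 3) (ZMod 2)) : cg 1 k = k := by
  unfold cg
  rw [inv_one, Units.val_one, one_mul, mul_one]

theorem cg_mul (u v : GL (Fin 3 ⊕ Fin 3) (ZMod 2)) (k : Matrix (Fin 3 ⊕ Fin 3) (Fin 3 ⊕ Fin 3) (ZMod 2)) :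
    cg (u * v) k = cg u (cg v k) := by
  unfold cg
  rw [mul_inv_rev, Units.val_mul, Units.val_mul]
  simp only [mul_assoc]

theorem cg_mem {u : GL (Fin 3 ⊕ Fin 3) (ZMod 2)}
    {K : Subalgebra (ZMod 2) (Matrix (Fin 3 ⊕ Fin 3) (Fin 3 ⊕ Fin 3) (ZMod 2))} (hu : u ∈ subalgebraNormalizer K)
    {k : Matrix (Fin 3 ⊕ Fin 3) (Fin 3 ⊕ Fin 3) (ZMod 2)} (hk : k ∈ K) : cg u k ∈ K := (hu k).1 hk

/-- the normaliser of a field of degree three -/
theorem no_field {M : Subgroup S} (h : 81 ∣ Nat.card M)
    (K : Subalgebra (ZMod 2) (Matrix (Fin 3 ⊕ Fin 3) (Fin 3 ⊕ Fin 3) (ZMod 2))) (hK : IsFieldSubalgebra 3 K)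
    (hM : ∀ g ∈ M, spToGL 3 (ZMod 2) g ∈ subalgebraNormalizer K) : False := by
  classical
  have hcard : Nat.card K = 8 := by
    rw [Module.natCard_eq_pow_finrank (K := ZMod 2) (V := K), hK.finrank_eq, Nat.card_eq_fintype_card, ZMod.card]
    rfl
  have hker : ∀ k ∈ K, k ≠ 0 → ∀ v : V, Matrix.mulVec k v = 0 → v = 0 := by
    intro k hk hk0 v hv
    obtain ⟨y, -, hy⟩ := hK.inv _ hk hk0
    have hy' : y * k = 1 := mul_eq_one_comm.1 hy
    have h6 := congrArg (fun w => Matrix.mulVec y w) hv
    simp only [Matrix.mulVec_mulVec, hy', Matrix.one_mulVec, Matrix.mulVec_zero] at h6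
    exact h6
  -- an element different from 0 and 1
  obtain ⟨κ, hκ0, hκ1⟩ : ∃ κ : K, κ ≠ 0 ∧ κ ≠ 1 := by
    by_contra hcon
    push Not at hcon
    have h1 : (Set.univ : Set K) ⊆ {0, 1} := by
      intro x _
      by_cases hx : x = 0
      · exact Or.inl hx
      · exact Or.inr (hcon x hx)
    have h2 := Set.ncard_le_ncard h1 (Set.toFinite _)
    rw [Set.ncard_univ, hcard] at h2
    have h3 := Set.ncard_insert_le (0 : K) {1}
    rw [Set.ncard_singleton] at h3
    omega
  -- the action on `K`
  let aK : MulAction M K := {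
    smul := fun g k => ⟨cg (spToGL 3 (ZMod 2) g.1) k.1, cg_mem (hM g.1 g.2) k.2⟩
    one_smul := by
      intro k
      apply Subtype.ext
      show cg (spToGL 3 (ZMod 2) 1) k.1 = k.1
      rw [map_one, cg_one]
    mul_smul := by
      intro a b k
      apply Subtype.ext
      show cg (spToGL 3 (ZMod 2) (a.1 * b.1)) k.1 = cg (spToGL 3 (ZMod 2) a.1) (cg (spToGL 3 (ZMod 2) b.1) k.1)
      rw [map_mul, cg_mul] }
  have hsm : ∀ (g : M) (k : K), (aK.toSMul.smul g k).1 = cg (spToGL 3 (ZMod 2) g.1) k.1 := fun _ _ => rfl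
  have hst : 27 ∣ Nat.card (@MulAction.stabilizer M K _ aK κ) := by
    let := aK
    have h1 := (MulAction.stabilizer M κ).card_mul_index
    have hz : ∀ g : M, g • (0 : K) = 0 := by
      intro g
      apply Subtype.ext
      refine (hsm g 0).trans ?_
      show _ * (0 : Matrix (Fin 3 ⊕ Fin 3) (Fin 3 ⊕ Fin 3) (ZMod 2)) * _ = 0
      rw [mul_zero, zero_mul]
    have ho : ∀ g : M, g • (1 : K) = 1 := by
      intro g
      apply Subtype.ext
      refine (hsm g 1).trans ?_
      show _ * (1 : Matrix (Fin 3 ⊕ Fin 3) (Fin 3 ⊕ Fin 3) (ZMod 2)) * _ = 1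
      rw [mul_one, ← Units.val_mul, mul_inv_cancel, Units.val_one]
    have h2 : MulAction.orbit M κ ⊆ ({0, 1} : Set K)ᶜ := by
      rintro _ ⟨g, rfl⟩ (h3 | h3)
      · have h3' : g • κ = 0 := h3
        exact hκ0 (MulAction.injective g (h3'.trans (hz g).symm))
      · have h3' : g • κ = 1 := h3
        exact hκ1 (MulAction.injective g (h3'.trans (ho g).symm))
    have h4 := Set.ncard_le_ncard h2 (Set.toFinite _)
    have h5 := Set.ncard_add_ncard_compl ({0, 1} : Set K)
    have h01 : (0 : K) ≠ 1 := by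
      intro h01
      exact hκ0 (by rw [← one_mul κ, ← h01, zero_mul])
    rw [Set.ncard_pair h01, hcard] at h5
    rw [MulAction.index_stabilizer] at h1
    have h6 : 0 < (MulAction.orbit M κ).ncard := by
      rw [Set.ncard_pos (Set.toFinite _)]
      exact MulAction.nonempty_orbit κ
    rw [← h1] at h
    have key : ∀ c o : ℕ, o ≤ 6 → 0 < o → 81 ∣ c * o → 27 ∣ c := by
      intro c o h4 h5 h
      interval_cases o <;> omega
    exact key _ _ (h4.trans (by omega)) h6 h
  have hp3 : Fact (Nat.Prime 3) := ⟨Nat.prime_three⟩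
  have hp7 : Fact (Nat.Prime 7) := ⟨by norm_num⟩
  obtain ⟨Y, hY⟩ := Sylow.exists_subgroup_card_pow_prime (G := @MulAction.stabilizer M K _ aK κ) (n := 3) 3 hst
  set Z : Subgroup S := (Y.map (@MulAction.stabilizer M K _ aK κ).subtype).map M.subtype with hZ
  have hZc : Nat.card Z = 27 := by
    rw [hZ, Subgroup.card_map_of_injective M.subtype_injective,
      Subgroup.card_map_of_injective (Subgroup.subtype_injective _), hY]
    rfl
  have hcomm : ∀ z ∈ Z, (z : S).1 * κ.1 = κ.1 * z.1 := by
    rintro _ ⟨_, ⟨y, -, rfl⟩, rfl⟩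
    have h0 : aK.toSMul.smul y.1 κ = κ := y.2
    have h1 := (hsm y.1 κ).symm.trans (congrArg Subtype.val h0)
    unfold cg at h1
    have h2 := congrArg (fun X => X * (spToGL 3 (ZMod 2) y.1.1).val) h1
    simp only [mul_assoc, ← Units.val_mul, inv_mul_cancel, Units.val_one, mul_one] at h2
    exact h2
  have h01 : (0 : K) ≠ 1 := by
    intro h01
    exact hκ0 (by rw [← one_mul κ, ← h01, zero_mul])
  have hκ7 : κ.1 ^ 7 = 1 := by
    have hnt : Nontrivial K := ⟨0, 1, h01⟩
    have hz : NoZeroDivisors K := ⟨by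
      intro a b hab
      by_cases ha : a = 0
      · exact Or.inl ha
      right
      obtain ⟨y, -, hy⟩ := hK.inv _ a.2 (fun h0 => ha (ZeroMemClass.coe_eq_zero.1 h0))
      have hy' : y * a.1 = 1 := mul_eq_one_comm.1 hy
      have h1 : a.1 * b.1 = 0 := congrArg Subtype.val hab
      have h2 := congrArg (fun X => y * X) h1
      simp only [← mul_assoc, hy', one_mul, mul_zero] at h2
      exact ZeroMemClass.coe_eq_zero.1 h2⟩
    have hdom : IsDomain K := NoZeroDivisors.to_isDomain K
    have hfin : Fintype K := Fintype.ofFinite K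
    let hgz : GroupWithZero K := Fintype.groupWithZeroOfCancel K
    have h1 := FiniteField.pow_card_sub_one_eq_one (K := K) κ hκ0
    rw [← Nat.card_eq_fintype_card, hcard] at h1
    exact congrArg Subtype.val h1
  have hfree : ∀ z ∈ Z, z ≠ 1 → ∀ v : V, act z v = v → v = 0 := by
    intro z hz hz1
    let C : Submodule (ZMod 2) V := {
      carrier := {v | act z v = v}
      add_mem' := by
        intro a b ha hb
        show act z (a + b) = a + b
        rw [act_add]
        exact congrArg₂ _ ha hb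
      zero_mem' := act_zero z
      smul_mem' := by
        intro c x hx
        show act z (c • x) = c • x
        have : act z (c • x) = c • act z x := Matrix.mulVec_smul _ _ _
        rw [this]
        exact congrArg _ hx }
    have hd : Nat.card C = 2 ^ Module.finrank (ZMod 2) C := by
      rw [Module.natCard_eq_pow_finrank (K := ZMod 2) (V := C), Nat.card_eq_fintype_card, ZMod.card]
    have hd6 : Module.finrank (ZMod 2) C ≤ 6 := by
      refine (Submodule.finrank_le C).trans (le_of_eq ?_)
      rw [Module.finrank_fintype_fun_eq_card]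
      rfl
    have hz27 : z ^ 27 = 1 := by
      have h1 : (⟨z, hz⟩ : Z) ^ Nat.card Z = 1 := pow_card_eq_one'
      rw [hZc] at h1
      exact congrArg Subtype.val h1
    have h3 : 64 ≡ Nat.card C [MOD 3] := by
      let f : Function.End V := act z
      have hfn : ∀ n : ℕ, f ^ n = act (z ^ n) := by
        intro n
        induction n with
        | zero => funext v; exact (act_one v).symm
        | succ n ih =>
          funext v
          rw [pow_succ', pow_succ', act_mul, ← ih]
          rfl
      have hf : f ^ 3 ^ 3 = 1 := by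
        rw [hfn, show (3 ^ 3 : ℕ) = 27 from rfl, hz27]
        funext v
        exact act_one v
      have h4 := Equiv.Perm.card_fixedPoints_modEq hf
      rw [← Nat.card_eq_fintype_card, ← Nat.card_eq_fintype_card, card_V] at h4
      exact h4
    have h7 : Nat.card C ≡ 1 [MOD 7] := by
      have hfC : ∀ v : C, Matrix.mulVec κ.1 v.1 ∈ C := by
        rintro ⟨v, hv⟩
        show Matrix.mulVec z.1 (Matrix.mulVec κ.1 v) = Matrix.mulVec κ.1 v
        rw [Matrix.mulVec_mulVec, hcomm z hz, ← Matrix.mulVec_mulVec]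
        exact congrArg _ hv
      let f : Function.End C := fun v => ⟨Matrix.mulVec κ.1 v.1, hfC v⟩
      have hfn : ∀ (n : ℕ) (v : C), ((f ^ n) v).1 = Matrix.mulVec (κ.1 ^ n) v.1 := by
        intro n
        induction n with
        | zero => intro v; exact (Matrix.one_mulVec _).symm
        | succ n ih =>
          intro v
          rw [pow_succ', pow_succ', ← Matrix.mulVec_mulVec, ← ih]
          rfl
      have hf : f ^ 7 ^ 1 = 1 := by
        funext v
        apply Subtype.ext
        rw [hfn, pow_one, hκ7, Matrix.one_mulVec]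
        rfl
      have h4 := Equiv.Perm.card_fixedPoints_modEq hf
      rw [← Nat.card_eq_fintype_card, ← Nat.card_eq_fintype_card] at h4
      have h5 : Nat.card f.fixedPoints = 1 := by
        rw [Nat.card_eq_one_iff_unique]
        refine ⟨⟨?_⟩, ⟨⟨0, ?_⟩⟩⟩
        · have h6 : ∀ x : f.fixedPoints, x.1.1 = 0 := by
            rintro ⟨⟨x, hx⟩, hx1⟩
            have h7 : Matrix.mulVec κ.1 x = x := congrArg Subtype.val hx1
            refine hker (κ.1 - 1) (K.sub_mem κ.2 K.one_mem) ?_ x ?_
            · intro h0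
              exact hκ1 (Subtype.ext (sub_eq_zero.1 h0))
            · rw [Matrix.sub_mulVec, h7, Matrix.one_mulVec, sub_self]
          intro a b
          exact Subtype.ext (Subtype.ext ((h6 a).trans (h6 b).symm))
        · apply Subtype.ext
          show Matrix.mulVec κ.1 (0 : V) = 0
          exact Matrix.mulVec_zero _
      rw [h5] at h4
      exact h4
    have hcases : Nat.card C = 1 ∨ Nat.card C = 64 := by
      rw [hd] at h3 h7 ⊢
      generalize Module.finrank (ZMod 2) C = d at h3 h7 hd6 ⊢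
      interval_cases d <;> revert h3 h7 <;> decide
    rcases hcases with h8 | h8
    · intro v hv
      have h9 : Subsingleton C := (Nat.card_eq_one_iff_unique.1 h8).1
      exact congrArg Subtype.val (Subsingleton.elim (⟨v, hv⟩ : C) 0)
    · exfalso
      apply hz1
      apply act_ext
      intro x
      have h9 : C = ⊤ := by
        apply Submodule.eq_top_of_finrank_eq
        rw [h8] at hd
        have h10 : Module.finrank (ZMod 2) C = 6 := Nat.pow_right_injective le_rfl (show 2 ^ _ = 2 ^ 6 by rw [← hd])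
        rw [h10, Module.finrank_fintype_fun_eq_card]
        rfl
      have h10 : x ∈ C := by rw [h9]; exact Submodule.mem_top
      rw [act_one]
      exact h10
  -- Burnside
  have hfin : Fintype Z := Fintype.ofFinite Z
  have hB := MulAction.sum_card_fixedBy_eq_card_orbits_mul_card_group Z V
  have hfx : ∀ z : Z, Fintype.card (MulAction.fixedBy V z) = 1 + if z = 1 then 63 else 0 := by
    intro z
    rw [← Nat.card_eq_fintype_card]
    by_cases hz : z = 1
    · rw [if_pos hz, hz]
      have : MulAction.fixedBy V (1 : Z) = Set.univ := by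
        ext v
        simp
      rw [this, Nat.card_univ, card_V]
    · rw [if_neg hz, add_zero, Nat.card_eq_one_iff_unique]
      have h6 : ∀ x : MulAction.fixedBy V z, x.1 = 0 := by
        rintro ⟨x, hx⟩
        exact hfree z.1 z.2 (fun h0 => hz (Subtype.ext h0)) x hx
      refine ⟨⟨fun a b => Subtype.ext ((h6 a).trans (h6 b).symm)⟩, ⟨⟨0, ?_⟩⟩⟩
      exact act_zero z.1
  simp only [hfx] at hB
  rw [Finset.sum_add_distrib, Finset.sum_ite_eq' , if_pos (Finset.mem_univ _)] at hB
  simp only [Finset.sum_const, Finset.card_univ, smul_eq_mul, mul_one, ← Nat.card_eq_fintype_card, hZc] at hB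
  omega

/-- **A maximal subgroup of `Sp₆(2)` of order divisible by 81 is the stabiliser of a quadratic form.** -/
theorem exists_form (h56 : Res56) {M : Subgroup S} (hM : IsCoatom M) (h81 : 81 ∣ Nat.card M) :
    ∃ Q : V → ZMod 2, (∀ u v, Q (u + v) = Q u + Q v + om u v) ∧ ∀ g : S, g ∈ M ↔ ∀ v, Q (act g v) = Q v := by
  classical
  have hinj : Function.Injective (spToGL 3 (ZMod 2)) := by
    intro a b h
    exact Subtype.ext (congrArg Units.val h)
  have hmax : IsMaximalIn (spGL 3 (ZMod 2)) (M.map (spToGL 3 (ZMod 2))) := by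
    constructor
    · rw [← Cfsg.Agent.H931.map_spToGL_top, Subgroup.map_lt_map_iff_of_injective hinj]
      exact lt_top_iff_ne_top.2 hM.1
    · intro L hL hL2
      have h1 : (L.comap (spToGL 3 (ZMod 2))).map (spToGL 3 (ZMod 2)) = L := by
        rw [Subgroup.map_comap_eq, inf_eq_right]
        intro g hg
        obtain ⟨A, hA⟩ := Cfsg.Agent.H931.exists_spToGL (hL2 hg)
        exact ⟨A, hA⟩
      have h2 : M ≤ L.comap (spToGL 3 (ZMod 2)) := Subgroup.map_le_iff_le_comap.1 hL
      rcases hM.le_iff.1 h2 with h3 | h3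
      · right
        rw [← h1, h3, Cfsg.Agent.H931.map_spToGL_top]
      · left
        rw [← h1, h3]
  have hcM : Nat.card (M.map (spToGL 3 (ZMod 2))) = Nat.card M := Subgroup.card_map_of_injective hinj
  have hmem : ∀ g : S, spToGL 3 (ZMod 2) g ∈ M.map (spToGL 3 (ZMod 2)) ↔ g ∈ M := fun g =>
    Subgroup.mem_map_iff_mem hinj
  have hsp : ∀ g : S, spToGL 3 (ZMod 2) g ∈ spGL 3 (ZMod 2) := fun g => Cfsg.Agent.H931.spToGL_mem g
  have hc : Fintype.card (ZMod 2) = 2 := ZMod.card 2
  have hsmall : ∀ W : Submodule (ZMod 2) V, W ≠ ⊥ → Module.finrank (ZMod 2) W ≤ 3 →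
      M.map (spToGL 3 (ZMod 2)) = subspaceStabilizer W ⊓ spGL 3 (ZMod 2) → False := by
    intro W hW hr hMW
    obtain ⟨w, hw, hw0⟩ := (Submodule.ne_bot_iff W).1 hW
    refine no_small h81 (W : Set V) ?_ W.zero_mem hw hw0 ?_
    · have h1 : (W : Set V).ncard = Nat.card W := rfl
      rw [h1, Module.natCard_eq_pow_finrank (K := ZMod 2) (V := W), Nat.card_eq_fintype_card, ZMod.card]
      calc 2 ^ Module.finrank (ZMod 2) W ≤ 2 ^ 3 := Nat.pow_le_pow_right (by norm_num) hr
        _ = 8 := by norm_num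
    · intro g hg v hv
      have h1 := (hmem g).2 hg
      rw [hMW] at h1
      exact (mem_stab.1 h1.1 v).1 hv
  rcases Cfsg.Agent.S5805.result _ hmax with ⟨W, hW, hs, hHW⟩ | ⟨W, hW, hn, hr, hHW⟩ | ⟨h3, -⟩ | ⟨ho, -⟩ |
    ⟨K, hK, -, -, hHK⟩ | ⟨ho, -⟩ | ⟨ho, -⟩ | ⟨F₀, r, P, ζ, hr, hcard, -⟩ | ⟨-, Q, -, hQ, hHQ⟩ | hS
  · refine (hsmall W hW ?_ hHW).elim
    have hnd := Cfsg.Agent.ClassicalGeometry.SympBasic.sympBilin_nondegenerate (m := 3) (F := ZMod 2)
    have h1 : W ≤ LinearMap.BilinForm.orthogonal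
        (Cfsg.Agent.ClassicalGeometry.SympBasic.sympBilin 3 (ZMod 2) : LinearMap.BilinForm (ZMod 2) V) W := by
      intro w hw u hu
      exact hs u hu w hw
    have h2 := LinearMap.BilinForm.finrank_orthogonal hnd W
    have h3 := Submodule.finrank_mono h1
    have h4 : Module.finrank (ZMod 2) W ≤ Module.finrank (ZMod 2) V := Submodule.finrank_le W
    rw [Module.finrank_fintype_fun_eq_card, Fintype.card_sum, Fintype.card_fin] at h2 h4
    have h5 : Module.finrank (ZMod 2) W ≤ 3 := by omega
    exact h5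
  · exact (hsmall W hW (Nat.le_of_lt hr) hHW).elim
  · rw [hc] at h3
    omega
  · rw [hc] at ho
    exact absurd ho (by decide)
  · refine (no_field h81 K hK ?_).elim
    intro g hg
    have h1 := (hmem g).2 hg
    rw [hHK] at h1
    exact h1.1
  · rw [hc] at ho
    exact absurd ho (by decide)
  · rw [hc] at ho
    exact absurd ho (by decide)
  · exfalso
    have h1 : 2 ≤ Nat.card F₀ := Finite.one_lt_card
    have h2 : 2 ^ 2 ≤ Nat.card F₀ ^ r := (Nat.pow_le_pow_right (by norm_num) hr.two_le).trans (Nat.pow_le_pow_left h1 r)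
    rw [← hcard, hc] at h2
    omega
  · refine ⟨Q, ?_, ?_⟩
    · intro u v
      have := hQ u v
      unfold QuadraticMap.polar at this
      rw [show om u v = sympForm 3 (ZMod 2) u v from rfl, ← this]
      ring
    · intro g
      rw [← hmem, hHQ]
      constructor
      · rintro ⟨⟨c, hc⟩, -⟩ v
        have hc1 : (c : ZMod 2) = 1 := by
          have : ∀ c : (ZMod 2)ˣ, (c : ZMod 2) = 1 := by decide
          exact this c
        have h1 := hc v
        rw [hc1, one_mul] at h1
        exact h1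
      · intro h1
        refine ⟨⟨1, fun v => ?_⟩, hsp g⟩
        rw [Units.val_one, one_mul]
        exact h1 v
  · exfalso
    have h1 := res_dvd h56 hmax hS
    rw [hcM] at h1
    have h2 := h81.trans h1
    omega

end Cfsg.Agent.H342.EP8
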