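import Cfsg.Agent.H342.O8.SpOut

/-!
# `O₆⁻(2)` in `Sp₆(2)` : no outer elements of order 3 (helper342)

`no_ext` : let `A ≅ Sp₆(2)` be a subgroup of a group without elements of order 30. Then no 3-element outside of `A`
normalises the stabiliser in `A` of the form `Q0`.
-/

set_option autoImplicit false

namespace Cfsg.Agent.H342.EP8

open Cfsg Cfsg.Geo Subgroup Cfsg.Agent.SporRec.TwoSp6.Sp Cfsg.Agent.SporRec.TwoSp6.Cox
open Cfsg.Agent.ClassicalGeometry.SympBasic

/-- the dual vectors -/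
def dc (j : Fin 6) : ℕ := [56, 4, 1, 48, 6, 32].getD j.val 0

theorem dc_dual : ∀ i j : Fin 6, fN (vc i.castSucc) (dc j) = decide (i = j) := by decide

theorem dc_sum : ∀ c < 64, c = (if fN c (dc 0) then vc 0 else 0) ^^^ ((if fN c (dc 1) then vc 1 else 0) ^^^
    ((if fN c (dc 2) then vc 2 else 0) ^^^ ((if fN c (dc 3) then vc 3 else 0) ^^^ ((if fN c (dc 4) then vc 4 else 0) ^^^
    (if fN c (dc 5) then vc 5 else 0))))) := by decide +kernel

theorem expand (x : V) : x = ∑ j : Fin 6, om x (enc (dc j)) • v j.castSucc := by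
  obtain ⟨c, hc, rfl⟩ := exists_enc x
  have key : ∀ (j : Fin 6), om (enc c) (enc (dc j)) • v j.castSucc = enc (if fN c (dc j) then vc j.castSucc else 0) := by
    intro j
    rw [om_enc]
    by_cases h : fN c (dc j) = true
    · rw [if_pos h, if_pos h, one_smul]
      rfl
    · rw [if_neg h, if_neg h, zero_smul, enc_zero]
  simp only [key]
  rw [Fin.sum_univ_six]
  simp only [← enc_xor]
  congr 1
  conv_lhs => rw [dc_sum c hc]
  simp only [Nat.xor_assoc]
  rfl

/-- the linear map with `v i ↦ w i` -/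
def G (w : Fin 6 → V) : V →ₗ[ZMod 2] V where
  toFun x := ∑ j : Fin 6, om x (enc (dc j)) • w j
  map_add' x y := by
    rw [← Finset.sum_add_distrib]
    refine Finset.sum_congr rfl fun j _ => ?_
    rw [om_add', add_smul]
  map_smul' c x := by
    rw [RingHom.id_apply, Finset.smul_sum]
    refine Finset.sum_congr rfl fun j _ => ?_
    rw [om_smul', mul_smul]

theorem G_v (w : Fin 6 → V) (i : Fin 6) : G w (v i.castSucc) = w i := by
  show ∑ j : Fin 6, om (v i.castSucc) (enc (dc j)) • w j = w i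
  have key : ∀ j : Fin 6, om (v i.castSucc) (enc (dc j)) • w j = if i = j then w j else 0 := by
    intro j
    have h1 : om (v i.castSucc) (enc (dc j)) = _ := om_enc (vc i.castSucc) (dc j)
    rw [h1, dc_dual]
    by_cases h : i = j
    · rw [if_pos h, if_pos (decide_eq_true h), one_smul]
    · rw [if_neg h, if_neg (by simpa using h), zero_smul]
  simp only [key]
  rw [Finset.sum_ite_eq, if_pos (Finset.mem_univ _)]

theorem om_sum_right (x : V) (f : Fin 6 → V) : om x (∑ j, f j) = ∑ j, om x (f j) := by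
  simp only [Fin.sum_univ_six, om_add]

theorem om_sum_left (x : V) (f : Fin 6 → V) : om (∑ j, f j) x = ∑ j, om (f j) x := by
  simp only [Fin.sum_univ_six, om_add']

theorem G_om {w : Fin 6 → V} (hw : ∀ i j, om (w i) (w j) = om (v i.castSucc) (v j.castSucc)) (x y : V) :
    om (G w x) (G w y) = om x y := by
  have key : ∀ (u : Fin 6 → V) (x y : V), om (∑ j : Fin 6, om x (enc (dc j)) • u j) (∑ j : Fin 6, om y (enc (dc j)) • u j) =
      ∑ j : Fin 6, ∑ k : Fin 6, om x (enc (dc j)) * (om y (enc (dc k)) * om (u j) (u k)) := by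
    intro u x y
    rw [om_sum_left]
    refine Finset.sum_congr rfl fun j _ => ?_
    rw [om_sum_right]
    refine Finset.sum_congr rfl fun k _ => ?_
    rw [om_smul, om_smul']
    ring
  have h1 : om (G w x) (G w y) = _ := key w x y
  have h2 := key (fun j => v j.castSucc) x y
  rw [← expand, ← expand] at h2
  rw [h1, h2]
  simp only [hw]

/-- an element of `Sp₆(2)` with `v i ↦ w i` -/
theorem exists_g {w : Fin 6 → V} (hw : ∀ i j, om (w i) (w j) = om (v i.castSucc) (v j.castSucc)) :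
    ∃ g : S, ∀ i, act g (v i.castSucc) = w i := by
  refine ⟨⟨LinearMap.toMatrix' (G w), mem_symplecticGroup_iff.2 fun a b => ?_⟩, fun i => ?_⟩
  · rw [LinearMap.toMatrix'_mulVec, LinearMap.toMatrix'_mulVec]
    exact G_om hw a b
  · show Matrix.mulVec (LinearMap.toMatrix' (G w)) _ = _
    rw [LinearMap.toMatrix'_mulVec, G_v]

/-! ### the element of order 5 -/

/-- the element of order 5 -/
def h5 : S := tr (v 0) * tr (v 2) * tr (v 3) * tr (v 1)

/-- on codes -/
def ch (c : ℕ) : ℕ := st 0 (st 2 (st 3 (st 1 c)))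

theorem act_h5 (c : ℕ) : act h5 (enc c) = enc (ch c) := by
  unfold h5 ch
  simp only [act_mul, act_enc]

theorem ch_five : ∀ c < 64, ch (ch (ch (ch (ch c)))) = c := by decide +kernel

theorem h5_pow : h5 ^ 5 = 1 := by
  apply act_ext
  intro x
  obtain ⟨c, hc, rfl⟩ := exists_enc x
  rw [act_one]
  have e : ∀ g : S, g ^ 5 = g * (g * (g * (g * g))) := by
    intro g
    simp only [pow_succ', pow_zero, mul_one]
  rw [e]
  simp only [act_mul, act_h5]
  rw [ch_five c hc]

theorem h5_ne : h5 ≠ 1 := by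
  intro h
  have h1 := act_h5 1
  rw [h, act_one] at h1
  have h2 : enc 1 ≠ enc (ch 1) := by decide +kernel
  exact h2 h1

theorem h5_comm : tr (v 5) * h5 = h5 * tr (v 5) := by
  have key : ∀ i : Fin 7, m7 5 i ≠ 3 → tr (v 5) * tr (v i) = tr (v i) * tr (v 5) := by
    intro i hi
    apply tr_comm
    rw [om_v', if_neg hi]
  have c0 := key 0 (by decide)
  have c1 := key 1 (by decide)
  have c2 := key 2 (by decide)
  have c3 := key 3 (by decide)
  unfold h5
  calc tr (v 5) * (tr (v 0) * tr (v 2) * tr (v 3) * tr (v 1)) = (tr (v 5) * tr (v 0)) * tr (v 2) * tr (v 3) * tr (v 1) := by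
        simp only [mul_assoc]
    _ = tr (v 0) * (tr (v 5) * tr (v 2)) * tr (v 3) * tr (v 1) := by rw [c0]; simp only [mul_assoc]
    _ = tr (v 0) * tr (v 2) * (tr (v 5) * tr (v 3)) * tr (v 1) := by rw [c2]; simp only [mul_assoc]
    _ = tr (v 0) * tr (v 2) * tr (v 3) * (tr (v 5) * tr (v 1)) := by rw [c3]; simp only [mul_assoc]
    _ = tr (v 0) * tr (v 2) * tr (v 3) * tr (v 1) * tr (v 5) := by rw [c1]; simp only [mul_assoc]

theorem tr_ne {w : V} (hw : w ≠ 0) : tr w ≠ 1 := by
  intro h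
  rw [← tr_zero] at h
  exact hw (tr_inj hw h)

theorem orderOf_h5 : orderOf h5 = 5 := by
  have hp5 : Fact (Nat.Prime 5) := ⟨by norm_num⟩
  exact orderOf_eq_prime h5_pow h5_ne

theorem orderOf_tr {w : V} (hw : w ≠ 0) : orderOf (tr w) = 2 := by
  have hp2 : Fact (Nat.Prime 2) := ⟨Nat.prime_two⟩
  exact orderOf_eq_prime (by rw [sq, tr_sq]) (tr_ne hw)

/-- the stabiliser of `Q0` -/
def O : Subgroup S where
  carrier := {g | ∀ x, Q0 (act g x) = Q0 x}
  one_mem' x := by rw [act_one]
  mul_mem' {a b} ha hb x := by rw [act_mul, ha, hb]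
  inv_mem' {a} ha x := by
    have h1 := ha (act a⁻¹ x)
    rw [← act_mul, mul_inv_cancel, act_one] at h1
    exact h1.symm

theorem mem_O {g : S} : g ∈ O ↔ ∀ x, Q0 (act g x) = Q0 x := Iff.rfl

theorem tr_mem_O {w : V} (hw : Q0 w = 1) : tr w ∈ O := fun x => pol_tr_mem Q0_pol hw x

theorem v_mem_O {i : Fin 7} (hi : i ≠ 6) : tr (v i) ∈ O := tr_mem_O (Q0_v i hi)

theorem h5_mem_O : h5 ∈ O :=
  O.mul_mem (O.mul_mem (O.mul_mem (v_mem_O (by decide)) (v_mem_O (by decide))) (v_mem_O (by decide)))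
    (v_mem_O (by decide))

/-- **no outer 3-elements** -/
theorem no_ext {Q : Type*} [Group Q] (hO : ∀ x : Q, orderOf x ≠ 30) {ι : S →* Q} (hι : Function.Injective ι) {x : Q}
    (hx : ∀ g, ι g ≠ x) {k : ℕ} (hx3 : x ^ 3 ^ k = 1) (hn : ∀ g ∈ O, ∃ g' ∈ O, ι g' = x * ι g * x⁻¹) : False := by
  classical
  -- transvections go to transvections
  have h5' : ∃ w, ι (tr w) = x * ι (tr (v 5)) * x⁻¹ := by
    obtain ⟨s, -, hs⟩ := hn _ (v_mem_O (i := 5) (by decide))
    obtain ⟨h, -, hh⟩ := hn _ h5_mem_O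
    obtain ⟨w, rfl⟩ := eq_tr (s := s) (h := h) (by
      apply hι
      rw [map_mul, hs, map_one]
      have : x * ι (tr (v 5)) * x⁻¹ * (x * ι (tr (v 5)) * x⁻¹) = x * (ι (tr (v 5)) * ι (tr (v 5))) * x⁻¹ := by group
      rw [this, ← map_mul, tr_sq, map_one]
      group) (by
      rintro rfl
      rw [map_one] at hs
      have h1 : ι (tr (v 5)) = 1 := by
        have : ι (tr (v 5)) = x⁻¹ * (x * ι (tr (v 5)) * x⁻¹) * x := by group
        rw [this, ← hs]
        group
      exact tr_ne (v_ne 5) (hι (h1.trans (map_one ι).symm))) (by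
      apply hι
      rw [map_pow, hh, map_one, conj_pow, ← map_pow, h5_pow, map_one]
      group) (by
      rintro rfl
      rw [map_one] at hh
      have h1 : ι h5 = 1 := by
        have : ι h5 = x⁻¹ * (x * ι h5 * x⁻¹) * x := by group
        rw [this, ← hh]
        group
      exact h5_ne (hι (h1.trans (map_one ι).symm))) (by
      apply hι
      rw [map_mul, map_mul, hs, hh]
      have e1 : x * ι (tr (v 5)) * x⁻¹ * (x * ι h5 * x⁻¹) = x * (ι (tr (v 5)) * ι h5) * x⁻¹ := by group
      have e2 : x * ι h5 * x⁻¹ * (x * ι (tr (v 5)) * x⁻¹) = x * (ι h5 * ι (tr (v 5))) * x⁻¹ := by group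
      rw [e1, e2, ← map_mul, ← map_mul, h5_comm])
    exact ⟨w, hs⟩
  have hstep : ∀ i j : Fin 7, i ≠ 6 → j ≠ 6 → om (v i) (v j) = 1 → (∃ w, ι (tr w) = x * ι (tr (v i)) * x⁻¹) →
      ∃ w, ι (tr w) = x * ι (tr (v j)) * x⁻¹ := by
    rintro i j hi hj hij ⟨w, hw⟩
    obtain ⟨c, -, hc⟩ := hn _ (O.mul_mem (v_mem_O hi) (v_mem_O hj))
    refine ⟨act c w, ?_⟩
    have e1 : tr (v j) = (tr (v i) * tr (v j)) * tr (v i) * (tr (v i) * tr (v j))⁻¹ := by
      rw [conj_tr]
      congr 1
      rw [act_mul, act_tr (v j) (v i), hij, one_smul, act_tr, om_add', om_self, om_symm, hij, zero_add, one_smul]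
      rw [show v i + v j + v i = v j + (v i + v i) by abel, add_self, add_zero]
    have e2 : ι (tr (v j)) = ι (tr (v i) * tr (v j)) * ι (tr (v i)) * (ι (tr (v i) * tr (v j)))⁻¹ := by
      rw [← map_inv, ← map_mul, ← map_mul, ← e1]
    rw [← conj_tr, map_mul, map_mul, map_inv, hc, hw]
    conv_rhs => rw [e2]
    group
  have h4' := hstep 5 4 (by decide) (by decide) (by rw [om_v', if_pos (by decide)]) h5'
  have h3' := hstep 4 3 (by decide) (by decide) (by rw [om_v', if_pos (by decide)]) h4'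
  have h2' := hstep 3 2 (by decide) (by decide) (by rw [om_v', if_pos (by decide)]) h3'
  have h1' := hstep 3 1 (by decide) (by decide) (by rw [om_v', if_pos (by decide)]) h3'
  have h0' := hstep 2 0 (by decide) (by decide) (by rw [om_v', if_pos (by decide)]) h2'
  have hall : ∀ i : Fin 6, ∃ w, ι (tr w) = x * ι (tr (v i.castSucc)) * x⁻¹ := by
    intro i
    fin_cases i
    · exact h0'
    · exact h1'
    · exact h2'
    · exact h3'
    · exact h4'
    · exact h5'
  choose w hw using hall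
  have hne6 : ∀ i : Fin 6, i.castSucc ≠ (6 : Fin 7) := by decide
  have hw0 : ∀ i, w i ≠ 0 := by
    intro i h0
    have h1 := hw i
    rw [h0, tr_zero, map_one] at h1
    have h2 : ι (tr (v i.castSucc)) = 1 := by
      have : ι (tr (v i.castSucc)) = x⁻¹ * (x * ι (tr (v i.castSucc)) * x⁻¹) * x := by group
      rw [this, ← h1]
      group
    exact tr_ne (v_ne _) (hι (h2.trans (map_one ι).symm))
  have hwQ : ∀ i, Q0 (w i) = 1 := by
    intro i
    obtain ⟨s, hsO, hs⟩ := hn _ (v_mem_O (hne6 i))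
    have h1 : s = tr (w i) := hι (hs.trans (hw i).symm)
    rw [h1] at hsO
    exact pol_of_tr Q0_pol (hw0 i) hsO
  have hcm : ∀ i j, tr (w i) * tr (w j) = tr (w j) * tr (w i) ↔
      tr (v i.castSucc) * tr (v j.castSucc) = tr (v j.castSucc) * tr (v i.castSucc) := by
    intro i j
    rw [← hι.eq_iff, ← hι.eq_iff (a := tr (v i.castSucc) * tr (v j.castSucc)), map_mul, map_mul, map_mul, map_mul,
      hw, hw]
    constructor
    · intro h
      have e1 : ι (tr (v i.castSucc)) * ι (tr (v j.castSucc)) = x⁻¹ * (x * ι (tr (v i.castSucc)) * x⁻¹ *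
        (x * ι (tr (v j.castSucc)) * x⁻¹)) * x := by group
      rw [e1, h]
      group
    · intro h
      have e1 : x * ι (tr (v i.castSucc)) * x⁻¹ * (x * ι (tr (v j.castSucc)) * x⁻¹) =
        x * (ι (tr (v i.castSucc)) * ι (tr (v j.castSucc))) * x⁻¹ := by group
      rw [e1, h]
      group
  have hgram : ∀ i j, om (w i) (w j) = om (v i.castSucc) (v j.castSucc) := by
    intro i j
    rcases om_cases (v i.castSucc) (v j.castSucc) with h1 | h1
    · rw [h1]
      exact om_of_comm (hw0 i) ((hcm i j).2 (tr_comm h1))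
    · rw [h1]
      rcases om_cases (w i) (w j) with h2 | h2
      · have h3 := om_of_comm (v_ne _) ((hcm i j).1 (tr_comm h2))
        rw [h1] at h3
        exact absurd h3 (by decide)
      · exact h2
  obtain ⟨g, hg⟩ := exists_g hgram
  have hgO : g ∈ O := by
    intro y
    refine pol_ext (pol_act Q0_pol g) Q0_pol ?_ y
    intro i hi
    obtain ⟨j, rfl⟩ : ∃ j : Fin 6, j.castSucc = i := ⟨i.castLT (by
      have : i.val ≠ 6 := fun h => hi (Fin.ext h)
      omega), rfl⟩
    show Q0 (act g (v j.castSucc)) = _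
    rw [hg, hwQ, Q0_v _ hi]
  -- the element `c`
  set c : Q := ι g⁻¹ * x with hc
  have hcomm : ∀ i : Fin 6, c * ι (tr (v i.castSucc)) * c⁻¹ = ι (tr (v i.castSucc)) := by
    intro i
    have h1 : g⁻¹ * tr (w i) * g = tr (v i.castSucc) := by
      have h2 := conj_tr g⁻¹ (w i)
      rw [inv_inv, ← hg i, ← act_mul, inv_mul_cancel, act_one] at h2
      rw [← hg i]
      exact h2
    have h3 : c * ι (tr (v i.castSucc)) * c⁻¹ = ι g⁻¹ * (x * ι (tr (v i.castSucc)) * x⁻¹) * ι g := by
      rw [hc, map_inv]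
      group
    rw [h3, ← hw, ← map_mul, ← map_mul, h1]
  have hcm2 : ∀ i : Fin 6, Commute c (ι (tr (v i.castSucc))) := by
    intro i
    have h1 := hcomm i
    rw [mul_inv_eq_iff_eq_mul] at h1
    exact h1
  have hcpow : ∀ n : ℕ, ∃ o ∈ O, c ^ n = ι o * x ^ n := by
    intro n
    induction n with
    | zero => exact ⟨1, O.one_mem, by rw [map_one, pow_zero, pow_zero, one_mul]⟩
    | succ n ih =>
      obtain ⟨o, ho, h1⟩ := ih
      obtain ⟨o', ho', h2⟩ := hn o ho
      refine ⟨g⁻¹ * o', O.mul_mem (O.inv_mem hgO) ho', ?_⟩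
      rw [pow_succ', h1, hc, map_mul, h2, pow_succ' x n]
      group
  have hc3 : c ^ 3 ^ k = 1 := by
    obtain ⟨o, -, h1⟩ := hcpow (3 ^ k)
    rw [hx3, mul_one] at h1
    have h2 : ∀ i : Fin 6, act o (v i.castSucc) = v i.castSucc := by
      intro i
      have h3 : Commute (c ^ 3 ^ k) (ι (tr (v i.castSucc))) := (hcm2 i).pow_left _
      rw [h1] at h3
      have h4 : o * tr (v i.castSucc) = tr (v i.castSucc) * o := by
        apply hι
        rw [map_mul, map_mul]
        exact h3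
      have h5 := conj_tr o (v i.castSucc)
      rw [h4, mul_inv_cancel_right] at h5
      exact (tr_inj (v_ne _) h5).symm
    have h3 : o = 1 := by
      apply act_ext6
      intro i hi
      obtain ⟨j, rfl⟩ : ∃ j : Fin 6, j.castSucc = i := ⟨i.castLT (by
        have : i.val ≠ 6 := fun h => hi (Fin.ext h)
        omega), rfl⟩
      rw [h2, act_one]
    rw [h1, h3, map_one]
  have hc1 : c ≠ 1 := by
    intro h0
    apply hx g
    rw [hc, map_inv, inv_mul_eq_one] at h0
    exact h0
  have hp3 : Fact (Nat.Prime 3) := ⟨Nat.prime_three⟩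
  obtain ⟨n, hn1, hn2⟩ := (Nat.dvd_prime_pow Nat.prime_three).1 (orderOf_dvd_of_pow_eq_one hc3)
  have hn0 : n ≠ 0 := by
    rintro rfl
    rw [pow_zero, orderOf_eq_one_iff] at hn2
    exact hc1 hn2
  obtain ⟨m, rfl⟩ := Nat.exists_eq_succ_of_ne_zero hn0
  have hc' : orderOf (c ^ 3 ^ m) = 3 := by
    rw [orderOf_pow' c (by positivity), hn2, Nat.gcd_eq_right (pow_dvd_pow 3 (Nat.le_succ m)), pow_succ]
    exact Nat.mul_div_cancel_left 3 (by positivity)
  have hu5 : Commute (c ^ 3 ^ m) (ι (tr (v 5))) := (hcm2 5).pow_left _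
  have huh : Commute (c ^ 3 ^ m) (ι h5) := by
    have h0 : Commute c (ι h5) := by
      unfold h5
      rw [map_mul, map_mul, map_mul]
      exact (((hcm2 0).mul_right (hcm2 2)).mul_right (hcm2 3)).mul_right (hcm2 1)
    exact h0.pow_left _
  have ho1 : orderOf (ι (tr (v 5))) = 2 := by rw [orderOf_injective ι hι, orderOf_tr (v_ne 5)]
  have ho2 : orderOf (ι h5) = 5 := by rw [orderOf_injective ι hι, orderOf_h5]
  have h52 : Commute (ι h5) (ι (tr (v 5))) := by
    show ι h5 * ι (tr (v 5)) = ι (tr (v 5)) * ι h5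
    rw [← map_mul, ← map_mul, h5_comm]
  have ho3 : orderOf (ι h5 * ι (tr (v 5))) = 10 := by
    rw [h52.orderOf_mul_eq_mul_orderOf_of_coprime (by rw [ho1, ho2]; norm_num), ho1, ho2]
  have ho4 : orderOf (c ^ 3 ^ m * (ι h5 * ι (tr (v 5)))) = 30 := by
    rw [(huh.mul_right hu5).orderOf_mul_eq_mul_orderOf_of_coprime (by rw [hc', ho3]; norm_num), hc', ho3]
  exact hO _ ho4

end Cfsg.Agent.H342.EP8
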