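import Cfsg.Agent.H342.O8.MaxSp

/-!
# The form of minus type on `F₂⁶` and the transvections of its stabiliser (helper342)
-/

set_option autoImplicit false

namespace Cfsg.Agent.H342.EP8

open Cfsg Cfsg.Geo Subgroup Cfsg.Agent.SporRec.TwoSp6.Sp Cfsg.Agent.SporRec.TwoSp6.Cox
open Cfsg.Agent.ClassicalGeometry.SympBasic

/-- quadratic forms polarising to `om` -/
def Pol (Q : V → ZMod 2) : Prop := ∀ u v, Q (u + v) = Q u + Q v + om u v

/-- the quadratic form of minus type -/
def Q0 (x : V) : ZMod 2 :=
  x (Sum.inl 0) * x (Sum.inr 0) + x (Sum.inl 1) * x (Sum.inr 1) + x (Sum.inl 2) * x (Sum.inr 2) +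
    (x (Sum.inl 0) + x (Sum.inl 2) + x (Sum.inr 0) + x (Sum.inr 1))

theorem Q0_pol : Pol Q0 := by
  intro u v
  have h : om u v = _ := sympForm_eq_sum u v
  rw [h, Fin.sum_univ_three]
  simp only [CharTwo.sub_eq_add]
  unfold Q0
  simp only [Pi.add_apply]
  ring

theorem pol_act {Q : V → ZMod 2} (h : Pol Q) (g : S) : Pol fun x => Q (act g x) := by
  intro u v
  show Q (act g (u + v)) = Q (act g u) + Q (act g v) + om u v
  rw [act_add, h, act_om]

theorem Pol.zero {Q : V → ZMod 2} (h : Pol Q) : Q 0 = 0 := by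
  have h1 := h 0 0
  rw [add_zero, om_self, add_zero] at h1
  have : ∀ a : ZMod 2, a = a + a → a = 0 := by decide
  exact this _ h1

theorem om_zero (x : V) : om x 0 = 0 := sympForm_zero_right x

theorem om_smul (x y : V) (c : ZMod 2) : om x (c • y) = c * om x y := sympForm_smul_right c x y

theorem om_smul' (x y : V) (c : ZMod 2) : om (c • x) y = c * om x y := sympForm_smul_left c x y

theorem Pol.smul {Q : V → ZMod 2} (h : Pol Q) (c : ZMod 2) (x : V) : Q (c • x) = c * Q x := by
  have : ∀ c : ZMod 2, c = 0 ∨ c = 1 := by decide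
  rcases this c with rfl | rfl
  · rw [zero_smul, zero_mul, h.zero]
  · rw [one_smul, one_mul]

/-- the value at the image under a transvection -/
theorem pol_tr {Q : V → ZMod 2} (h : Pol Q) (w x : V) : Q (act (tr w) x) = Q x + om x w * (Q w + 1) := by
  rw [act_tr, h, h.smul, om_smul]
  have : ∀ a b c : ZMod 2, a + b * c + b * b = a + b * (c + 1) := by decide
  exact this _ _ _

theorem pol_tr_mem {Q : V → ZMod 2} (h : Pol Q) {w : V} (hw : Q w = 1) (x : V) : Q (act (tr w) x) = Q x := by
  rw [pol_tr h, hw, show (1 : ZMod 2) + 1 = 0 by decide, mul_zero, add_zero]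

theorem pol_of_tr {Q : V → ZMod 2} (h : Pol Q) {w : V} (hw : w ≠ 0) (H : ∀ x, Q (act (tr w) x) = Q x) :
    Q w = 1 := by
  obtain ⟨x, hx⟩ := exists_om_one hw
  have h1 := H x
  rw [pol_tr h, om_symm, hx, one_mul] at h1
  have : ∀ a b : ZMod 2, a + (b + 1) = a → b = 1 := by decide
  exact this _ _ h1

/-- the subset of the six vectors -/
def su (s : ℕ) : ℕ :=
  (if s.testBit 0 then vc 0 else 0) ^^^ ((if s.testBit 1 then vc 1 else 0) ^^^ ((if s.testBit 2 then vc 2 else 0) ^^^
  ((if s.testBit 3 then vc 3 else 0) ^^^ ((if s.testBit 4 then vc 4 else 0) ^^^ (if s.testBit 5 then vc 5 else 0)))))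

theorem exists_su : ∀ c < 64, ∃ s < 64, c = su s := by decide +kernel

theorem enc_zero : enc 0 = 0 := by
  funext i
  rcases i with i | i <;> simp [enc, bitf]

/-- the six vectors span -/
theorem span6 (P : V → Prop) (h0 : P 0) (hv : ∀ i : Fin 7, i ≠ 6 → P (v i)) (hadd : ∀ x y, P x → P y → P (x + y)) :
    ∀ x, P x := by
  intro x
  obtain ⟨c, hc, rfl⟩ := exists_enc x
  obtain ⟨s, -, rfl⟩ := exists_su c hc
  have key : ∀ (b : Bool) (i : Fin 7), i ≠ 6 → P (enc (if b then vc i else 0)) := by
    intro b i hi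
    by_cases hb : b = true
    · rw [if_pos hb]
      exact hv i hi
    · rw [if_neg hb, enc_zero]
      exact h0
  unfold su
  simp only [enc_xor]
  exact hadd _ _ (key _ 0 (by decide)) (hadd _ _ (key _ 1 (by decide)) (hadd _ _ (key _ 2 (by decide))
    (hadd _ _ (key _ 3 (by decide)) (hadd _ _ (key _ 4 (by decide)) (key _ 5 (by decide))))))

theorem pol_ext {Q Q' : V → ZMod 2} (h : Pol Q) (h' : Pol Q') (H : ∀ i : Fin 7, i ≠ 6 → Q (v i) = Q' (v i)) (x : V) :
    Q x = Q' x := by
  refine span6 (fun x => Q x = Q' x) ?_ H ?_ x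
  · rw [h.zero, h'.zero]
  · intro x y hx hy
    rw [h, h', hx, hy]

theorem act_ext6 {g g' : S} (H : ∀ i : Fin 7, i ≠ 6 → act g (v i) = act g' (v i)) : g = g' := by
  apply act_ext
  intro x
  refine span6 (fun x => act g x = act g' x) ?_ H ?_ x
  · rw [act_zero, act_zero]
  · intro x y hx hy
    rw [act_add, act_add, hx, hy]

theorem Q0_v : ∀ i : Fin 7, i ≠ 6 → Q0 (v i) = 1 := by decide +kernel

/-- every form is `Q0 + om · w` -/
theorem exists_w {Q : V → ZMod 2} (h : Pol Q) : ∃ w, ∀ x, Q x = Q0 x + om x w := by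
  have key : ∀ b : Fin 6 → Bool, ∃ c < 64, ∀ i : Fin 6, fN (vc i.castSucc) c = b i := by decide +kernel
  obtain ⟨c, hc, hb⟩ := key fun i => decide (Q (v i.castSucc) = 0)
  refine ⟨enc c, fun x => pol_ext (Q' := fun x => Q0 x + om x (enc c)) h ?_ ?_ x⟩
  · intro u v
    show Q0 (u + v) + om (u + v) (enc c) = Q0 u + om u (enc c) + (Q0 v + om v (enc c)) + om u v
    rw [Q0_pol, om_add']
    ring
  · intro i hi
    show _ = Q0 (v i) + om (enc (vc i)) (enc c)
    rw [Q0_v i hi, om_enc]
    obtain ⟨j, rfl⟩ : ∃ j : Fin 6, j.castSucc = i := ⟨i.castLT (by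
      have : i.val ≠ 6 := fun h => hi (Fin.ext h)
      omega), rfl⟩
    rw [hb j]
    by_cases h1 : Q (v j.castSucc) = 0
    · rw [h1]; simp; decide
    · have : ∀ a : ZMod 2, a ≠ 0 → a = 1 := by decide
      simp [this _ h1]

/-- nondegeneracy -/
theorem eq_of_om {u w : V} (h : ∀ x, om x u = om x w) : u = w := by
  by_contra hne
  have h0 : u + w ≠ 0 := by
    intro h0
    apply hne
    have : u + w + w = w := by rw [h0, zero_add]
    rwa [add_assoc, add_self, add_zero] at this
  obtain ⟨a, ha⟩ := exists_om_one h0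
  rw [om_symm, om_add, h, CharTwo.add_self_eq_zero] at ha
  exact absurd ha (by decide)

/-- the form fixed by a group of order divisible by 27 is unique -/
theorem form_unique {Y : Subgroup S} (hY : 27 ∣ Nat.card Y) {Q Q' : V → ZMod 2} (h : Pol Q) (h' : Pol Q')
    (H : ∀ y ∈ Y, ∀ x, Q (act y x) = Q x) (H' : ∀ y ∈ Y, ∀ x, Q' (act y x) = Q' x) (x : V) : Q x = Q' x := by
  obtain ⟨w, hw⟩ := exists_w h
  obtain ⟨w', hw'⟩ := exists_w h'
  have hD : ∀ x, om x (w + w') = Q x + Q' x := by
    intro x
    rw [om_add, hw, hw']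
    have : ∀ a b c : ZMod 2, a + b = c + a + (c + b) := by decide
    exact this _ _ _
  have hfix : ∀ y ∈ Y, act y (w + w') = w + w' := by
    intro y hy
    apply eq_of_om
    intro x
    have h1 := act_om y (act y⁻¹ x) (w + w')
    rw [← act_mul, mul_inv_cancel, act_one] at h1
    rw [h1, hD, hD, H _ (inv_mem hy), H' _ (inv_mem hy)]
  have h0 : w + w' = 0 := by
    by_contra hne
    exact no_fix hY hne hfix
  have h1 := hD x
  rw [h0, om_zero] at h1
  have : ∀ a b : ZMod 2, 0 = a + b → a = b := by decide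
  exact this _ _ h1

/-- the explicit form -/
def om' (x w : V) : ZMod 2 :=
  (x (Sum.inl 0) * w (Sum.inr 0) + x (Sum.inr 0) * w (Sum.inl 0)) +
  ((x (Sum.inl 1) * w (Sum.inr 1) + x (Sum.inr 1) * w (Sum.inl 1)) +
  (x (Sum.inl 2) * w (Sum.inr 2) + x (Sum.inr 2) * w (Sum.inl 2)))

theorem om_eq (x w : V) : om x w = om' x w := by
  have h : om x w = _ := sympForm_eq_sum x w
  rw [h, Fin.sum_univ_three]
  simp only [CharTwo.sub_eq_add]
  unfold om'
  ring

theorem card_plus : ∀ w : V, Q0 w = 1 → Fintype.card {x : V // Q0 x + om' x w = 0} = 36 := by decide +kernel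

/-- a form fixed by a group of order divisible by 27 has minus type -/
theorem type_minus {Y : Subgroup S} (hY : 27 ∣ Nat.card Y) {w : V}
    (H : ∀ y ∈ Y, ∀ x, Q0 (act y x) + om (act y x) w = Q0 x + om x w) : Q0 w = 0 := by
  by_contra h0
  have h1 : Q0 w = 1 := by
    have : ∀ a : ZMod 2, a ≠ 0 → a = 1 := by decide
    exact this _ h0
  have hp3 : Fact (Nat.Prime 3) := ⟨Nat.prime_three⟩
  obtain ⟨Z, hZ⟩ := Sylow.exists_subgroup_card_pow_prime (G := Y) (n := 3) 3 hY
  have hZp : IsPGroup 3 Z := IsPGroup.of_card hZ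
  let aX : MulAction Z {x : V // Q0 x + om' x w = 0} := {
    smul := fun z x => ⟨act z.1.1 x.1, by rw [← om_eq, H _ z.1.2, om_eq]; exact x.2⟩
    one_smul := fun x => Subtype.ext (act_one x.1)
    mul_smul := fun a b x => Subtype.ext (act_mul a.1.1 b.1.1 x.1) }
  have h2 := hZp.card_modEq_card_fixedPoints {x : V // Q0 x + om' x w = 0}
  rw [Nat.card_eq_fintype_card, card_plus w h1] at h2
  have h3 : ∃ x : MulAction.fixedPoints Z {x : V // Q0 x + om' x w = 0}, x.1.1 ≠ 0 := by
    by_contra hcon
    push Not at hcon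
    have h4 : Nat.card (MulAction.fixedPoints Z {x : V // Q0 x + om' x w = 0}) = 1 := by
      rw [Nat.card_eq_one_iff_unique]
      refine ⟨⟨fun a b => Subtype.ext (Subtype.ext ((hcon a).trans (hcon b).symm))⟩, ⟨⟨⟨0, ?_⟩, ?_⟩⟩⟩
      · rw [← om_eq, om_symm, om_zero, add_zero]
        exact Q0_pol.zero
      · intro z
        exact Subtype.ext (act_zero z.1.1)
    rw [h4] at h2
    exact absurd h2 (by decide)
  obtain ⟨⟨⟨x, hx⟩, hx1⟩, hx0⟩ := h3
  refine no_fix (Y := Z.map Y.subtype) ?_ hx0 ?_
  · rw [Subgroup.card_map_of_injective Y.subtype_injective, hZ]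
    norm_num
  · rintro _ ⟨z, hz, rfl⟩
    exact congrArg Subtype.val (hx1 ⟨z, hz⟩)

/-- a form fixed by a group of order divisible by 27 is conjugate to `Q0` -/
theorem exists_conj {Y : Subgroup S} (hY : 27 ∣ Nat.card Y) {Q : V → ZMod 2} (h : Pol Q)
    (H : ∀ y ∈ Y, ∀ x, Q (act y x) = Q x) : ∃ t : S, ∀ x, Q x = Q0 (act t x) := by
  obtain ⟨w, hw⟩ := exists_w h
  have h1 : Q0 w = 0 := by
    apply type_minus hY
    intro y hy x
    rw [← hw, ← hw, H y hy]
  refine ⟨tr w, fun x => ?_⟩
  rw [pol_tr Q0_pol, h1, zero_add, mul_one, hw]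

/-! ### transvections -/

theorem tr_inj {u w : V} (hu : u ≠ 0) (h : tr u = tr w) : u = w := by
  obtain ⟨x, hx⟩ := exists_om_one hu
  have h1 := congrArg (fun g => act g x) h
  simp only [act_tr] at h1
  rw [om_symm, hx, one_smul] at h1
  have h2 : u = om x w • w := add_left_cancel h1
  rcases om_cases x w with h3 | h3
  · rw [h3, zero_smul] at h2
    exact absurd h2 hu
  · rwa [h3, one_smul] at h2

theorem om_of_comm {u w : V} (hu : u ≠ 0) (h : tr u * tr w = tr w * tr u) : om u w = 0 := by
  rcases om_cases u w with h1 | h1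
  · exact h1
  · exfalso
    have h2 := tr_braid h1
    rw [h, mul_assoc, tr_sq, mul_one, mul_assoc, h, ← mul_assoc, tr_sq, one_mul] at h2
    have h3 := tr_inj hu h2.symm
    rw [← h3, om_self] at h1
    exact absurd h1 (by decide)

/-- **an involution which commutes with an element of order 5 is a transvection** -/
theorem eq_tr {s h : S} (hs : s * s = 1) (hs1 : s ≠ 1) (hh : h ^ 5 = 1) (hh1 : h ≠ 1) (hc : s * h = h * s) :
    ∃ w, s = tr w := by
  classical
  have hss : ∀ x, act s (act s x) = x := by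
    intro x
    rw [← act_mul, hs, act_one]
  let N : V →ₗ[ZMod 2] V := {
    toFun := fun x => x + act s x
    map_add' := by
      intro x y
      show x + y + act s (x + y) = x + act s x + (y + act s y)
      rw [act_add]
      abel
    map_smul' := by
      intro c x
      show c • x + act s (c • x) = c • (x + act s x)
      have : act s (c • x) = c • act s x := Matrix.mulVec_smul _ _ _
      rw [this, smul_add] }
  have hN : ∀ x, N x = x + act s x := fun _ => rfl
  let C : Submodule (ZMod 2) V := {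
    carrier := {v | act h v = v}
    add_mem' := by
      intro a b ha hb
      show act h (a + b) = a + b
      rw [act_add]
      exact congrArg₂ _ ha hb
    zero_mem' := act_zero h
    smul_mem' := by
      intro c x hx
      show act h (c • x) = c • x
      have : act h (c • x) = c • act h x := Matrix.mulVec_smul _ _ _
      rw [this]
      exact congrArg _ hx }
  have hC : ∀ x, x ∈ C ↔ act h x = x := fun _ => Iff.rfl
  have hp5 : Fact (Nat.Prime 5) := ⟨by norm_num⟩
  have hcard : ∀ W : Submodule (ZMod 2) V, Nat.card W = 2 ^ Module.finrank (ZMod 2) W := by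
    intro W
    rw [Module.natCard_eq_pow_finrank (K := ZMod 2) (V := W), Nat.card_eq_fintype_card, ZMod.card]
  have hV6 : Module.finrank (ZMod 2) V = 6 := by
    rw [Module.finrank_fintype_fun_eq_card]
    rfl
  -- a count
  have hcount : ∀ W : Submodule (ZMod 2) V, (∀ x ∈ W, act h x ∈ W) →
      Nat.card W ≡ Nat.card (W ⊓ C : Submodule (ZMod 2) V) [MOD 5] := by
    intro W hW
    let f : Function.End W := fun x => ⟨act h x.1, hW x.1 x.2⟩
    have hfn : ∀ (n : ℕ) (x : W), ((f ^ n) x).1 = act (h ^ n) x.1 := by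
      intro n
      induction n with
      | zero => intro x; exact (act_one _).symm
      | succ n ih =>
        intro x
        rw [pow_succ', pow_succ', act_mul, ← ih]
        rfl
    have hf : f ^ 5 ^ 1 = 1 := by
      funext x
      apply Subtype.ext
      rw [hfn, pow_one, hh, act_one]
      rfl
    have h4 := Equiv.Perm.card_fixedPoints_modEq hf
    rw [← Nat.card_eq_fintype_card, ← Nat.card_eq_fintype_card] at h4
    have h5 : Nat.card f.fixedPoints = Nat.card (W ⊓ C : Submodule (ZMod 2) V) := by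
      refine Nat.card_congr ⟨fun x => ⟨x.1.1, x.1.2, ?_⟩, fun x => ⟨⟨x.1, x.2.1⟩, ?_⟩, fun x => rfl, fun x => rfl⟩
      · exact congrArg Subtype.val x.2
      · exact Subtype.ext x.2.2
    rw [h5] at h4
    exact h4
  -- `C` has dimension 2
  have hC2 : Module.finrank (ZMod 2) C = 2 := by
    have h1 := hcount ⊤ (fun x _ => Submodule.mem_top)
    rw [top_inf_eq, hcard, hcard, finrank_top, hV6] at h1
    have h2 := Submodule.finrank_le C
    rw [hV6] at h2
    have h3 : Module.finrank (ZMod 2) C ≠ 6 := by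
      intro h3
      apply hh1
      have h4 : C = ⊤ := Submodule.eq_top_of_finrank_eq (by rw [h3, hV6])
      apply act_ext
      intro x
      have h5 : x ∈ C := by rw [h4]; exact Submodule.mem_top
      rw [act_one]
      exact h5
    generalize Module.finrank (ZMod 2) C = d at h1 h2 h3 ⊢
    interval_cases d <;> revert h1 h3 <;> decide
  -- the image of `N`
  have hNN : ∀ x, N (N x) = 0 := by
    intro x
    rw [hN, hN, act_add, hss, add_comm (act s x) x, add_self]
  have hI3 : Module.finrank (ZMod 2) (LinearMap.range N) ≤ 3 := by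
    have h1 := N.finrank_range_add_finrank_ker
    have h2 : LinearMap.range N ≤ LinearMap.ker N := by
      rintro _ ⟨x, rfl⟩
      exact hNN x
    have h3 := Submodule.finrank_mono h2
    rw [hV6] at h1
    omega
  have hNh : ∀ x, N (act h x) = act h (N x) := by
    intro x
    rw [hN, hN, act_add, ← act_mul, ← act_mul, hc]
  have hIC : LinearMap.range N ≤ C := by
    have h1 := hcount (LinearMap.range N) (by
      rintro _ ⟨x, rfl⟩
      exact ⟨act h x, hNh x⟩)
    rw [hcard, hcard] at h1
    have h2 : Module.finrank (ZMod 2) (LinearMap.range N ⊓ C : Submodule (ZMod 2) V) ≤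
      Module.finrank (ZMod 2) (LinearMap.range N) := Submodule.finrank_mono inf_le_left
    have h3 : Module.finrank (ZMod 2) (LinearMap.range N ⊓ C : Submodule (ZMod 2) V) =
      Module.finrank (ZMod 2) (LinearMap.range N) := by
      generalize Module.finrank (ZMod 2) (LinearMap.range N ⊓ C : Submodule (ZMod 2) V) = a at h1 h2 ⊢
      generalize Module.finrank (ZMod 2) (LinearMap.range N) = b at h1 h2 hI3 ⊢
      interval_cases b <;> interval_cases a <;> revert h1 <;> decide
    have h4 := Submodule.eq_of_le_of_finrank_eq (inf_le_left : LinearMap.range N ⊓ C ≤ LinearMap.range N) h3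
    rw [← h4]
    exact inf_le_right
  -- the image is isotropic
  have hiso : ∀ x y, om (N x) (N y) = 0 := by
    intro x y
    have h1 := act_om s x y
    have h2 := act_om s (act s x) y
    rw [hss] at h2
    rw [hN, hN, om_add', om_add, om_add, h1, h2]
    have : ∀ a b : ZMod 2, a + b + (b + a) = 0 := by decide
    exact this _ _
  -- `C` is nondegenerate
  have hnd : ∀ c ∈ C, c ≠ 0 → ∃ c' ∈ C, om c c' = 1 := by
    intro c hc0 hc1
    obtain ⟨x, hx⟩ := exists_om_one hc1
    have h1 : ∀ y, om c (act h y) = om c y := by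
      intro y
      have := act_om h c y
      rwa [(hC c).1 hc0] at this
    refine ⟨x + act h x + act h (act h x) + act h (act h (act h x)) + act h (act h (act h (act h x))), ?_, ?_⟩
    · rw [hC]
      simp only [act_add]
      have h2 : act h (act h (act h (act h (act h x)))) = x := by
        simp only [← act_mul]
        have : h * (h * (h * (h * h))) = h ^ 5 := by
          simp only [pow_succ, pow_zero, one_mul, mul_assoc]
        rw [this, hh, act_one]
      rw [h2]
      abel
    · simp only [om_add, h1, hx]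
      decide
  have hI1 : Module.finrank (ZMod 2) (LinearMap.range N) ≤ 1 := by
    by_contra hcon
    have h1 := Submodule.finrank_mono hIC
    have h2 : LinearMap.range N = C := Submodule.eq_of_le_of_finrank_eq hIC (by omega)
    obtain ⟨u, hu⟩ : ∃ u, N u ≠ 0 := by
      by_contra h3
      push Not at h3
      have h4 : LinearMap.range N = ⊥ := by
        rw [eq_bot_iff]
        rintro _ ⟨x, rfl⟩
        exact h3 x
      rw [h4, finrank_bot] at hcon
      omega
    obtain ⟨c', hc', h3⟩ := hnd (N u) (hIC ⟨u, rfl⟩) hu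
    rw [← h2] at hc'
    obtain ⟨y, rfl⟩ := hc'
    rw [hiso] at h3
    exact absurd h3 (by decide)
  obtain ⟨⟨w, hw⟩, hw2⟩ := finrank_le_one_iff.1 hI1
  have hw3 : ∀ x, ∃ c : ZMod 2, N x = c • w := by
    intro x
    obtain ⟨c, hc⟩ := hw2 ⟨N x, x, rfl⟩
    exact ⟨c, (congrArg Subtype.val hc).symm⟩
  choose l hl using hw3
  have hsx : ∀ x, act s x = x + l x • w := by
    intro x
    rw [← hl, hN, ← add_assoc, add_self, zero_add]
  have hrel : ∀ x y, l y * om x w = l x * om y w := by
    intro x y
    have h1 := act_om s x y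
    rw [hsx, hsx] at h1
    rw [om_add', om_add, om_add, om_smul, om_smul', om_smul', om_smul, om_self, om_symm w y] at h1
    have : ∀ a b c d e : ZMod 2, a + b * c + (d * e + d * (b * 0)) = a → b * c = d * e := by decide
    exact this _ _ _ _ _ h1
  obtain ⟨u, hu⟩ : ∃ u, act s u ≠ u := by
    by_contra h3
    push Not at h3
    apply hs1
    apply act_ext
    intro x
    rw [h3, act_one]
  have hlu : l u = 1 := by
    have : ∀ a : ZMod 2, a = 0 ∨ a = 1 := by decide
    rcases this (l u) with h1 | h1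
    · exfalso
      apply hu
      rw [hsx, h1, zero_smul, add_zero]
    · exact h1
  have hw0 : w ≠ 0 := by
    intro h0
    apply hu
    rw [hsx, h0, smul_zero, add_zero]
  obtain ⟨x1, hx1⟩ := exists_om_one hw0
  rw [om_symm] at hx1
  have huw : om u w = 1 := by
    have h1 := hrel x1 u
    rw [hlu, hx1, one_mul] at h1
    have : ∀ a b : ZMod 2, 1 = a * b → b = 1 := by decide
    exact this _ _ h1
  refine ⟨w, act_ext fun x => ?_⟩
  rw [hsx, act_tr]
  have h1 := hrel x u
  rw [hlu, huw, one_mul, mul_one] at h1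
  rw [h1]

end Cfsg.Agent.H342.EP8
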