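import Cfsg.Agent.H342.O8.SpExt
import Cfsg.Agent.H359.OEightE
import Cfsg.Agent.StandardComponent.SpTwoAut
import Cfsg.Agent.H419.EP.Soc

/-!
# S3499-VII, `Ω₈⁺(2)` : the socle `Sp₆(2)` (helper342)

`o8two` : no extremely primitive group with socle `Ω₈⁺(2)` has a point stabiliser `A ≅ Sp₆(2)` in the socle.
`maxform` : the two-point stabilisers of order divisible by 81 in `A ≅ Sp₆(2)`, for any `EPT A Γ`.
-/

set_option autoImplicit false

namespace Cfsg.Agent.H342.EP8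

open Cfsg Subgroup Cfsg.Agent.H284 Cfsg.Agent.H419.EP Cfsg.Agent.SporRec.TwoSp6.Sp
open Cfsg.Agent.H84.EP (Res56)

theorem gp1 {G : Type*} [Group G] (t a b : G) : t⁻¹ * (a * b) * t = (t⁻¹ * a * t) * (t⁻¹ * b * t) := by group

theorem gp2 {G : Type*} [Group G] (t g : G) : t * (t⁻¹ * g * t) * t⁻¹ = g := by group

theorem gp3 {G : Type*} [Group G] (t g : G) : t⁻¹ * (t * g * t⁻¹) * t = g := by group

theorem gp4 {G : Type*} [Group G] (t g : G) : t * (t⁻¹ * g * t) = g * t := by group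

/-- `A` with socle `Sp₆(2)` is `Sp₆(2)` -/
theorem exists_iso {Q : Type*} [Group Q] [Finite Q] {A : Subgroup Q} {K : Type*} [Field K] [Fintype K]
    (hS : HasSoc A (PSp 3 K)) (hK : Fintype.card K = 2) : Nonempty (A ≃* S) := by
  obtain ⟨eK⟩ := Cfsg.Agent.StandardComponent.SpTwoAut.exists_equiv hK
  have hS' : HasSoc A S := hS.congr eK
  have h1 := hS'.card_le
  rw [Cfsg.Agent.StandardComponent.SpTwoAut.card_mulAut] at h1
  obtain ⟨N, hN1, _, _, ⟨eN⟩⟩ := hS'
  have h2 : N = A := Subgroup.eq_of_le_of_card_ge hN1 (by rw [Nat.card_congr eN.toEquiv]; exact h1)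
  subst h2
  exact ⟨eN⟩

section

variable {Q : Type*} [Group Q] {A : Subgroup Q} {Γ : Subgroup (MulAut Q)}

/-- every element of `Γ` is inner -/
theorem inner_gamma (h : EPT A Γ) (φ : A ≃* S) {σ : MulAut Q} (hσ : σ ∈ Γ) : ∃ a ∈ A, σ = MulAut.conj a := by
  have hA : ∀ a ∈ A, σ a ∈ A := fun a ha => (h.inv σ hσ a).2 ha
  have hA' : ∀ a ∈ A, σ.symm a ∈ A := fun a ha => (h.inv σ hσ _).1 (by rw [MulEquiv.apply_symm_apply]; exact ha)
  let α : MulAut A := {
    toFun := fun a => ⟨σ a.1, hA a.1 a.2⟩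
    invFun := fun a => ⟨σ.symm a.1, hA' a.1 a.2⟩
    left_inv := fun a => Subtype.ext (σ.symm_apply_apply a.1)
    right_inv := fun a => Subtype.ext (σ.apply_symm_apply a.1)
    map_mul' := fun a b => Subtype.ext (map_mul σ a.1 b.1) }
  obtain ⟨x, hx⟩ := Cfsg.Agent.StandardComponent.SpTwoAut.inner_of_equiv φ α
  refine ⟨x.1, x.2, ?_⟩
  have h1 : (MulAut.conj x.1)⁻¹ * σ = 1 := by
    apply h.cent _ (Γ.mul_mem (Γ.inv_mem ((h.conj _).2 x.2)) hσ)
    intro a ha
    have h2 : σ a = x.1 * a * x.1⁻¹ := congrArg Subtype.val (DFunLike.congr_fun hx ⟨a, ha⟩)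
    rw [MulAut.mul_apply, h2, ← map_inv, MulAut.conj_apply]
    group
  rw [inv_mul_eq_one] at h1
  exact h1.symm

theorem conj_inj_on (φ : A ≃* S) {a b : Q} (ha : a ∈ A) (hb : b ∈ A) (h : MulAut.conj a = MulAut.conj b) : a = b := by
  have h1 : ∀ y : A, (⟨a, ha⟩ * y * ⟨a, ha⟩⁻¹ : A) = ⟨b, hb⟩ * y * ⟨b, hb⟩⁻¹ := by
    intro y
    apply Subtype.ext
    have := DFunLike.congr_fun h y.1
    exact this
  have h2 : φ (⟨b, hb⟩⁻¹ * ⟨a, ha⟩) ∈ Subgroup.center S := by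
    rw [Subgroup.mem_center_iff]
    intro g
    have h3 := h1 (φ.symm g)
    apply φ.symm.injective
    simp only [map_mul, MulEquiv.symm_apply_apply]
    have e1 : (⟨b, hb⟩⁻¹ * ⟨a, ha⟩ : A) * φ.symm g = ⟨b, hb⟩⁻¹ * (⟨a, ha⟩ * φ.symm g * ⟨a, ha⟩⁻¹) * ⟨a, ha⟩ := by group
    rw [e1, h3]
    group
  rw [Cfsg.Agent.StandardComponent.SpTwoAut.center_eq_bot, mem_bot, map_eq_one_iff φ φ.injective,
    inv_mul_eq_one] at h2
  exact (congrArg Subtype.val h2).symm

/-- the two-point stabilisers are maximal in `A` -/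
theorem two_max (h : EPT A Γ) (φ : A ≃* S) {x : Q} (hx : x ∉ A) {L : Subgroup Q} (h1 : A ⊓ cj x A ≤ L) (h2 : L ≤ A) :
    L = A ∨ L = A ⊓ cj x A := by
  rcases h.two x hx (L.map MulAut.conj) (by
    rintro _ ⟨k, hk, rfl⟩
    exact (h.conj k).2 (h2 hk)) (by
    intro σ hσ hσx
    obtain ⟨a, ha, rfl⟩ := inner_gamma h φ hσ
    refine ⟨a, h1 ⟨ha, mem_cj.2 ?_⟩, rfl⟩
    rw [MulAut.conj_apply] at hσx
    have e1 : x⁻¹ * a * x = x⁻¹ * (a * x * a⁻¹) * a := by group
    rw [e1]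
    exact A.mul_mem hσx ha) with h3 | h3
  · left
    apply le_antisymm h2
    intro a ha
    have h4 : MulAut.conj a ∈ L.map MulAut.conj := by rw [h3]; exact (h.conj a).2 ha
    obtain ⟨k, hk, h5⟩ := h4
    rw [← conj_inj_on φ (h2 hk) ha h5]
    exact hk
  · right
    apply le_antisymm _ h1
    intro k hk
    refine ⟨h2 hk, mem_cj.2 ?_⟩
    have h4 := h3 _ ⟨k, hk, rfl⟩
    have h5 : x⁻¹ * (k * x * k⁻¹) ∈ A := h4
    have e1 : x⁻¹ * k * x = x⁻¹ * (k * x * k⁻¹) * k := by group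
    rw [e1]
    exact A.mul_mem h5 (h2 hk)

/-- the embedding of `Sp₆(2)` -/
def io (φ : A ≃* S) : S →* Q := A.subtype.comp φ.symm.toMonoidHom

theorem io_inj (φ : A ≃* S) : Function.Injective (io φ) := A.subtype_injective.comp φ.symm.injective

theorem io_mem (φ : A ≃* S) (g : S) : io φ g ∈ A := (φ.symm g).2

theorem io_surj (φ : A ≃* S) {a : Q} (ha : a ∈ A) : ∃ g, io φ g = a := by
  refine ⟨φ ⟨a, ha⟩, ?_⟩
  show ((φ.symm (φ ⟨a, ha⟩) : A) : Q) = a
  rw [MulEquiv.symm_apply_apply]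

/-- the conjugated embedding -/
def it (φ : A ≃* S) (t : S) : S →* Q where
  toFun g := io φ (t⁻¹ * g * t)
  map_one' := by rw [mul_one, inv_mul_cancel, map_one]
  map_mul' a b := by rw [← map_mul, gp1]

theorem it_apply (φ : A ≃* S) (t g : S) : it φ t g = io φ (t⁻¹ * g * t) := rfl

theorem it_inj (φ : A ≃* S) (t : S) : Function.Injective (it φ t) := by
  intro a b hab
  rw [it_apply, it_apply] at hab
  have h1 := io_inj φ hab
  rwa [mul_left_inj, mul_right_inj] at h1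

/-- the two-point stabilisers are maximal -/
theorem coatom (h : EPT A Γ) (φ : A ≃* S) {x : Q} (hx : x ∉ A) : IsCoatom ((cj x A).comap (io φ)) := by
  constructor
  · intro h0
    apply hx
    have : x⁻¹ ∈ A := by
      apply h.selfnorm
      intro a ha
      obtain ⟨g, rfl⟩ := io_surj φ ha
      have h1 : g ∈ (cj x A).comap (io φ) := by rw [h0]; exact mem_top _
      have h2 := mem_cj.1 (mem_comap.1 h1)
      rwa [inv_inv]
    exact A.inv_mem_iff.1 this
  · intro L hL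
    have h1 : A ⊓ cj x A ≤ L.map (io φ) := by
      rintro a ⟨ha, ha2⟩
      obtain ⟨g, rfl⟩ := io_surj φ ha
      exact ⟨g, hL.le ha2, rfl⟩
    have h2 : L.map (io φ) ≤ A := by
      rintro _ ⟨g, _, rfl⟩
      exact io_mem φ g
    rcases two_max h φ hx h1 h2 with h3 | h3
    · rw [Subgroup.eq_top_iff']
      intro g
      have h4 : io φ g ∈ L.map (io φ) := by rw [h3]; exact io_mem φ g
      exact (Subgroup.mem_map_iff_mem (io_inj φ)).1 h4
    · exfalso
      apply hL.not_ge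
      intro g hg
      have h4 : io φ g ∈ A ⊓ cj x A := by rw [← h3]; exact ⟨g, hg, rfl⟩
      exact (mem_inf.1 h4).2

/-- **the two-point stabilisers of order divisible by 81 in `A ≅ Sp₆(2)`** -/
theorem maxform (h56 : Res56) (h : EPT A Γ) (φ : A ≃* S) {x : Q} (hx : x ∉ A)
    (h81 : 81 ∣ Nat.card ((cj x A).comap (io φ))) :
    ∃ f : V → ZMod 2, Pol f ∧ ∀ g : S, io φ g ∈ cj x A ↔ ∀ v, f (act g v) = f v :=
  exists_form h56 (coatom h φ hx) h81

/-- no 3-element normalises a Sylow 3-subgroup of `A` -/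
theorem no_three (h56 : Res56) (h : EPT A Γ) (φ : A ≃* S) (hO : ∀ x : Q, orderOf x ≠ 30) {Y : Subgroup Q} (hYA : Y ≤ A)
    (hY : 81 ∣ Nat.card Y) {x : Q} (hx : x ∉ A) (hxY : ∀ y ∈ Y, x * y * x⁻¹ ∈ Y) (hxY' : ∀ y ∈ Y, x⁻¹ * y * x ∈ Y) {k : ℕ}
    (hx3 : x ^ 3 ^ k = 1) : False := by
  classical
  set Z : Subgroup S := Y.comap (io φ) with hZ
  have hZY : Z.map (io φ) = Y := by
    rw [hZ, Subgroup.map_comap_eq, inf_eq_right]
    intro y hy
    obtain ⟨g, hg⟩ := io_surj φ (hYA hy)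
    exact ⟨g, hg⟩
  have hZc : Nat.card Z = Nat.card Y := by
    rw [← hZY]
    exact (Subgroup.card_map_of_injective (io_inj φ)).symm
  have hZ81 : 81 ∣ Nat.card Z := by rw [hZc]; exact hY
  have hZ27 : 27 ∣ Nat.card Z := (by norm_num : 27 ∣ 81).trans hZ81
  have hx' : x⁻¹ ∉ A := fun h0 => hx (A.inv_mem_iff.1 h0)
  have hle : ∀ z ∈ Z, io φ z ∈ cj x A := fun z hz => mem_cj.2 (hYA (hxY' _ hz))
  have hle' : ∀ z ∈ Z, io φ z ∈ cj x⁻¹ A := fun z hz => mem_cj.2 (by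
    rw [inv_inv]
    exact hYA (hxY _ hz))
  obtain ⟨f, hf, hf2⟩ := maxform h56 h φ hx (hZ81.trans (Subgroup.card_dvd_of_le hle))
  obtain ⟨f', hf', hf2'⟩ := maxform h56 h φ hx' (hZ81.trans (Subgroup.card_dvd_of_le hle'))
  have hff : ∀ v, f v = f' v := form_unique hZ27 hf hf' (fun z hz => (hf2 z).1 (hle z hz))
    (fun z hz => (hf2' z).1 (hle' z hz))
  have hMM : ∀ g : S, io φ g ∈ cj x A ↔ io φ g ∈ cj x⁻¹ A := by
    intro g
    rw [hf2, hf2']
    simp only [hff]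
  obtain ⟨t, ht⟩ := exists_conj hZ27 hf (fun z hz => (hf2 z).1 (hle z hz))
  -- the conjugated embedding
  obtain ⟨ι, hι, hιi⟩ : ∃ ι : S →* Q, (∀ g, ι g = io φ (t⁻¹ * g * t)) ∧ Function.Injective ι :=
    ⟨it φ t, it_apply φ t, it_inj φ t⟩
  have hmem : ∀ g : S, g ∈ O ↔ ι g ∈ cj x A := by
    intro g
    rw [hι, hf2, mem_O]
    constructor
    · intro h1 v
      rw [ht, ht, ← h1 (act t v), ← act_mul, ← act_mul, gp4]
    · intro h1 v
      have h2 := h1 (act t⁻¹ v)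
      rw [ht, ht, ← act_mul, ← act_mul, ← act_mul, gp2, mul_inv_cancel, act_one] at h2
      exact h2
  refine no_ext hO (ι := ι) hιi (x := x) ?_ hx3 ?_
  · intro g hg
    apply hx
    rw [← hg, hι]
    exact io_mem φ _
  · intro g hg
    have h1 := (hmem g).1 hg
    rw [hι] at h1
    have h2 := mem_cj.1 ((hMM _).1 h1)
    rw [inv_inv, ← hι] at h2
    obtain ⟨g', hg'⟩ := io_surj φ h2
    refine ⟨t * g' * t⁻¹, ?_, ?_⟩
    · rw [hmem, hι, gp3, hg', mem_cj]
      have e2 : x⁻¹ * (x * ι g * x⁻¹) * x = ι g := by group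
      rw [e2, hι]
      exact io_mem φ _
    · rw [hι, gp3, hg']

end

theorem card_o8 {F : Type*} [Field F] [Fintype F] (hF : Fintype.card F = 2) :
    Nat.card (POmega F (quadFormPlus 4 F)) = 174182400 := by
  have h := S0293.result (F := F) hF 4 (by norm_num)
  have hg : Nat.gcd 4 (2 ^ 4 - 1) = 1 := by decide
  rw [hg] at h
  simp only [show 4 - 1 = 3 by norm_num, Finset.prod_range_succ, Finset.prod_range_zero] at h
  norm_num at h
  exact h

/-- **row `O8PLUS` of S3499, `q = 2`: the socle `Sp₆(2)`** -/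
theorem o8two {Q : Type*} [Group Q] {A : Subgroup Q} {Γ : Subgroup (MulAut Q)} {F : Type*} [Field F] [Fintype F]
    {K : Type*} [Field K] [Fintype K] (h56 : Res56) (h : EPT A Γ) (e : Q ≃* POmega F (quadFormPlus 4 F))
    (hF : Fintype.card F = 2) (hS : HasSoc A (PSp 3 K)) (hK : Fintype.card K = 2) : False := by
  classical
  have hQc : Nat.card Q = 174182400 := by rw [Nat.card_congr e.toEquiv, card_o8 hF]
  have hfin : Finite Q := Nat.finite_of_card_ne_zero (by rw [hQc]; decide)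
  obtain ⟨φ⟩ := exists_iso hS hK
  have hAc : Nat.card A = 1451520 := by rw [Nat.card_congr φ.toEquiv, card_S]
  have hO : ∀ x : Q, orderOf x ≠ 30 := by
    intro x hx
    obtain ⟨e8⟩ := Cfsg.Agent.H359.OEight.exists_equiv hF
    have h1 := Cfsg.Agent.H359.OEight.sp (e8 (e x))
    rw [MulEquiv.orderOf_eq, MulEquiv.orderOf_eq, hx] at h1
    revert h1
    decide
  have hp3 : Fact (Nat.Prime 3) := ⟨Nat.prime_three⟩
  obtain ⟨Y0, hY0⟩ := Sylow.exists_subgroup_card_pow_prime (G := A) (n := 4) 3 (by rw [hAc]; norm_num)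
  set Y : Subgroup Q := Y0.map A.subtype with hY
  have hYA : Y ≤ A := Subgroup.map_subtype_le Y0
  have hYc : Nat.card Y = 3 ^ 4 := by rw [hY, Subgroup.card_map_of_injective A.subtype_injective, hY0]
  obtain ⟨P, hP, hYP⟩ := Sylow.exists_subgroup_card_pow_succ (p := 3) (n := 4) (by rw [hQc]; norm_num) hYc
  have hidx : (Y.subgroupOf P).index = (Nat.card P).minFac := by
    have h1 := (Y.subgroupOf P).card_mul_index
    rw [Nat.card_congr (Subgroup.subgroupOfEquivOfLe hYP).toEquiv, hYc, hP] at h1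
    rw [hP, Nat.Prime.pow_minFac Nat.prime_three (by norm_num)]
    omega
  have hn : (Y.subgroupOf P).Normal := Subgroup.normal_of_index_eq_minFac_card hidx
  obtain ⟨x, hxP, hxY⟩ : ∃ x ∈ P, x ∉ Y := by
    by_contra hcon
    push Not at hcon
    have h1 : P ≤ Y := hcon
    have h2 := Subgroup.card_dvd_of_le h1
    rw [hP, hYc] at h2
    exact absurd h2 (by norm_num)
  have hxA : x ∉ A := by
    intro hxA
    apply hxY
    have h1 : Nat.card (P ⊓ A : Subgroup Q) ∣ 81 := by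
      have h2 : Nat.card (P ⊓ A : Subgroup Q) ∣ Nat.card P := Subgroup.card_dvd_of_le inf_le_left
      have h3 : Nat.card (P ⊓ A : Subgroup Q) ∣ Nat.card A := Subgroup.card_dvd_of_le inf_le_right
      rw [hP] at h2
      rw [hAc] at h3
      have h4 := Nat.dvd_gcd h2 h3
      have h5 : Nat.gcd (3 ^ (4 + 1)) 1451520 = 81 := by norm_num
      rwa [h5] at h4
    have h2 : Y = P ⊓ A := Subgroup.eq_of_le_of_card_ge (le_inf hYP hYA) (by
      rw [hYc]
      exact Nat.le_of_dvd (by norm_num) h1)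
    rw [h2]
    exact ⟨hxP, hxA⟩
  have hconj : ∀ z ∈ P, ∀ y ∈ Y, z * y * z⁻¹ ∈ Y := by
    intro z hz y hy
    have := hn.conj_mem ⟨y, hYP hy⟩ hy ⟨z, hz⟩
    exact this
  have hx3 : x ^ 3 ^ 5 = 1 := by
    have h1 : (⟨x, hxP⟩ : P) ^ Nat.card P = 1 := pow_card_eq_one'
    rw [hP] at h1
    exact congrArg Subtype.val h1
  refine no_three h56 h φ hO hYA (by rw [hYc]; norm_num) hxA (hconj x hxP) ?_ hx3
  intro y hy
  have := hconj x⁻¹ (P.inv_mem hxP) y hy
  rwa [inv_inv] at this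

end Cfsg.Agent.H342.EP8

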